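import Cfsg.Agent.Cit.Nil.RTwoM.AN.QuoA
import Cfsg.Agent.Cit.Nil.ROne.GraphB

/-!
# The quotient of a world by the centraliser of its members: the simple normal subgroup

`QT Om f` : `T0 Om`, `Om` connected, not nil, `f` surjective with kernel `C(⟨Om⟩)`.

* `QT.data` : the component of `⟨Om⟩`;
* `QT.qm` : `QM Om f`;
* `QT.fsimp` : the image of the component is a `FSimp` of `Y` which contains all `f (zz K)`.
-/

set_option autoImplicit false
set_option linter.style.haveILetI false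
set_option linter.unusedSectionVars false

namespace Cfsg.Agent.Cit.Nil.RTwoM.Quo

open Subgroup Cfsg Cit IndDefs RTwo

universe u

/-- the quotient situation, with the input of the induction -/
structure QT {M Y : Type*} [Group M] [Group Y] [Finite M] (Om : Set (Subgroup M)) (f : M →* Y) : Prop where
  t0 : T0 Om
  conn : ∀ K ∈ Om, ∀ L ∈ Om, L ∈ comp Om K
  nn : ∃ K ∈ Om, ¬ NIL K
  surj : Function.Surjective f
  ker : ∀ g, f g = 1 ↔ ∀ K ∈ Om, ∀ k ∈ K, g * k = k * g

/-- the output of `exists_comp` for `⟨Om⟩` -/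
structure Dat {M : Type*} [Group M] (Om : Set (Subgroup M)) (L : Subgroup M) : Prop where
  comp : IsComponent L
  nor : L.Normal
  le : L ≤ sSup Om
  mem : ∀ J ∈ Om, zz J ∈ L
  ncen : ∀ J ∈ Om, ¬ ∀ K ∈ Om, ∀ k ∈ K, zz J * k = k * zz J
  cen : ∀ g ∈ sSup Om, (∀ x ∈ L, g * x = x * g) → ∀ b ∈ sSup Om, g * b = b * g

namespace QT

variable {M Y : Type u} [Group M] [Group Y] [Finite M] {Om : Set (Subgroup M)} {f : M →* Y} {K L : Subgroup M}
  (q : QT Om f) {g x y : M}

theorem cen_sSup (h : ∀ K ∈ Om, ∀ k ∈ K, g * k = k * g) : ∀ b ∈ sSup Om, g * b = b * g := by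
  have h1 : sSup Om ≤ centralizer {g} := sSup_le fun K hK k hk => mem_centralizer_singleton_iff.2 (h K hK k hk).symm
  intro b hb
  exact (mem_centralizer_singleton_iff.1 (h1 hb)).symm

include q

theorem data (hev : ∀ (G : Type u) [Group G] [Finite G], Comp.EvQ G) : ∃ L, Dat Om L := by
  haveI : Fact (Nat.Prime 2) := ⟨Nat.prime_two⟩
  obtain ⟨K, hK, hN⟩ := q.nn
  have t := q.t0
  obtain ⟨B, hB⟩ : ∃ B : Subgroup M, B = sSup Om := ⟨_, rfl⟩
  have hle : ∀ L ∈ Om, L ≤ B := fun L hL => by rw [hB]; exact le_sSup hL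
  have hBn : B.Normal := by
    refine ⟨fun x hx g => ?_⟩
    have h1 : B ≤ B.comap (MulAut.conj g).toMonoidHom := by
      conv_lhs => rw [hB]
      refine sSup_le fun L hL x hx => ?_
      have h2 : g * x * g⁻¹ ∈ cj g L := conj_mem_cj hx
      exact hle _ (t.hyp.conj L hL g) h2
    exact h1 hx
  have hBs : B.IsSubnormal := hBn.isSubnormal
  have tB := Ind.SubB.t0_restr t hBs
  have hmap : ∀ L ∈ Om, (L.subgroupOf B).map B.subtype = L := fun L hL => map_subgroupOf_eq_of_le (hle L hL)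
  have hres : ∀ L ∈ Om, L.subgroupOf B ∈ restr Om B := fun L hL => subgroupOf_mem_restr hL (hle L hL)
  have hcov : ∀ A ∈ restr Om B, ∃ L ∈ Om, A = L.subgroupOf B := by
    intro A hA
    refine ⟨_, mem_restr.1 hA, ?_⟩
    rw [subgroupOf, comap_map_eq_self_of_injective B.subtype_injective]
  have topB : sSup (restr Om B) = ⊤ := by
    rw [eq_top_iff]
    rintro ⟨b, hb⟩ _
    have h1 : B ≤ (sSup (restr Om B)).map B.subtype := by
      conv_lhs => rw [hB]
      refine sSup_le fun L hL => ?_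
      conv_lhs => rw [← hmap L hL]
      exact Subgroup.map_mono (le_sSup (hres L hL))
    obtain ⟨x, hx, hxb⟩ := h1 hb
    have h2 : x = ⟨b, hb⟩ := Subtype.ext hxb
    rwa [← h2]
  have connB : ∀ A ∈ restr Om B, ∀ C ∈ restr Om B, C ∈ comp (restr Om B) A := by
    intro A hA C hC
    obtain ⟨L, hL, rfl⟩ := hcov A hA
    obtain ⟨L', hL', rfl⟩ := hcov C hC
    exact Ind.SubB.subgroupOf_mem_comp (fun N hN' => hle N (comp_sub hL hN')) (q.conn L hL L' hL')
  have hNB : ¬ NIL (K.subgroupOf B) := by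
    intro h
    apply hN
    have h1 := zz_map t.hyp (hres K hK)
    rw [hmap K hK] at h1
    rw [NIL, ← h1]
    have h2 : pCore 2 B ≤ (pCore 2 M).comap B.subtype := by
      rw [← map_le_iff_le_comap]
      exact SignalizersComponents.CompBasic.subnormal_pGroup_le_pCore
        (Subgroup.IsSubnormal.trans' (Lib.Cores.pCore_normal 2).isSubnormal hBs)
        ((Lib.Cores.pCore_isPGroup 2).map _)
    exact h2 h
  obtain ⟨hpc, L, hL, hLn, huni, hzL, hzc⟩ := Ind.Red.exists_comp tB topB connB (hev B) (hev _) (hres K hK) hNB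
  have hCL := Ind.centralizer_eq huni tB.core hpc
  have hzz : ∀ J (hJ : J ∈ Om), ∃ h : zz J ∈ B, (⟨zz J, h⟩ : B) = zz (J.subgroupOf B) := by
    intro J hJ
    refine ⟨hle J hJ (t.hyp.zz_mem hJ), Subtype.ext ?_⟩
    have h1 := zz_map t.hyp (hres J hJ)
    rw [hmap J hJ] at h1
    exact h1.symm
  refine ⟨L.map B.subtype, ⟨SignalizersComponents.Components.isComponent_map_subtype hBs hL, ⟨?_⟩, ?_, ?_, ?_, ?_⟩⟩
  · -- normal
    intro x hx g
    have h1 := SignalizersComponents.Components.isComponent_conj g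
      (SignalizersComponents.Components.isComponent_map_subtype hBs hL)
    have h2 : (L.map B.subtype).map (MulAut.conj g).toMonoidHom ≤ B := by
      rintro _ ⟨y, ⟨w, -, rfl⟩, rfl⟩
      exact hBn.conj_mem _ w.2 g
    have h3 := SignalizersComponents.Components.isComponent_subgroupOf h2 h1
    have h4 := huni _ h3
    have h5 : (L.map B.subtype).map (MulAut.conj g).toMonoidHom = L.map B.subtype := by
      rw [← map_subgroupOf_eq_of_le h2, h4]
    rw [← h5]
    exact ⟨x, hx, rfl⟩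
  · rw [← hB]; exact map_subtype_le L
  · intro J hJ
    obtain ⟨h1, h2⟩ := hzz J hJ
    refine ⟨⟨zz J, h1⟩, ?_, rfl⟩
    rw [h2]
    exact hzL _ (hres J hJ)
  · intro J hJ h
    obtain ⟨h1, h2⟩ := hzz J hJ
    apply hzc _ (hres J hJ)
    rw [← h2, mem_center_iff]
    rintro ⟨b, hb⟩
    apply Subtype.ext
    have h3 := cen_sSup h b (by rw [← hB]; exact hb)
    exact h3.symm
  · intro g hg h b hb
    rw [← hB] at hg hb
    have h1 : (⟨g, hg⟩ : B) ∈ centralizer (L : Set B) := by
      rw [mem_centralizer_iff]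
      intro x hx
      exact Subtype.ext (h x ⟨x, hx, rfl⟩).symm
    rw [hCL] at h1
    exact congrArg Subtype.val (mem_center_iff.1 h1 ⟨b, hb⟩).symm

theorem qm (hev : ∀ (G : Type u) [Group G] [Finite G], Comp.EvQ G) : QM Om f where
  hyp := q.t0.hyp
  card := q.t0.card
  surj := q.surj
  ker := q.ker
  no K hK h := by
    obtain ⟨L, hL⟩ := q.data hev
    exact hL.ncen K hK ((q.ker _).1 h)

/-- an element centralising the component is in the kernel -/
theorem ker_of_cen (hev : ∀ (G : Type u) [Group G] [Finite G], Comp.EvQ G) (hL : Dat Om L)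
    (h : ∀ x ∈ L, g * x = x * g) : f g = 1 := by
  have qm := q.qm hev
  rw [q.ker]
  intro K hK k hk
  have h1 := qm.as_lift (g := g) hK (one_mem K) (fun k hk => by
    have hc : f (g * k * g⁻¹ * k⁻¹) = 1 := by
      rw [q.ker]
      have hcB : g * k * g⁻¹ * k⁻¹ ∈ sSup Om := by
        refine mul_mem ?_ (inv_mem ((le_sSup hK : K ≤ sSup Om) hk))
        exact (le_sSup (q.t0.hyp.conj K hK g) : cj g K ≤ sSup Om) (conj_mem_cj hk)
      have hcL : ∀ x ∈ L, g * k * g⁻¹ * k⁻¹ * x = x * (g * k * g⁻¹ * k⁻¹) := by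
        intro x hx
        have h2 : k⁻¹ * x * k ∈ L := by
          have := hL.nor.conj_mem x hx k⁻¹
          rwa [inv_inv] at this
        have h3 := h _ h2
        have h4 := h _ hx
        calc g * k * g⁻¹ * k⁻¹ * x = g * k * g⁻¹ * (k⁻¹ * x * k) * k⁻¹ := by group
          _ = g * k * g⁻¹ * ((k⁻¹ * x * k) * g) * g⁻¹ * k⁻¹ := by group
          _ = g * k * g⁻¹ * (g * (k⁻¹ * x * k)) * g⁻¹ * k⁻¹ := by rw [h3]
          _ = (g * x) * (k * g⁻¹ * k⁻¹) := by group
          _ = (x * g) * (k * g⁻¹ * k⁻¹) := by rw [h4]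
          _ = x * (g * k * g⁻¹ * k⁻¹) := by group
      have h2 := hL.cen _ hcB hcL
      intro K' hK' k' hk'
      exact h2 k' ((le_sSup hK' : K' ≤ sSup Om) hk')
    rw [one_mul, inv_one, mul_one]
    have h2 : f (g * k * g⁻¹) = f (g * k * g⁻¹ * k⁻¹) * f k := by rw [← map_mul]; congr 1; group
    rw [h2, hc, one_mul]) k hk
  rw [one_mul, inv_one, mul_one] at h1
  exact mul_inv_eq_iff_eq_mul.1 h1

/-- **the simple normal subgroup of `Y`** -/
theorem fsimp (hev : ∀ (G : Type u) [Group G] [Finite G], Comp.EvQ G) :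
    ∃ X : Subgroup Y, ROne.FSimp X ∧ (∀ K ∈ Om, f (zz K) ∈ X) ∧ 2 ∣ Nat.card X := by
  obtain ⟨L, hL⟩ := q.data hev
  have qm := q.qm hev
  have hperf : Group.IsPerfect L := hL.comp.2.1
  have hLn := hL.nor
  have hkerL : ∀ c, f c = 1 → ∀ x ∈ L, c * x = x * c := fun c hc x hx =>
    cen_sSup ((q.ker c).1 hc) x (hL.le hx)
  have hCX : centralizer ((L.map f : Subgroup Y) : Set Y) = ⊥ := by
    rw [eq_bot_iff]
    intro w hw
    obtain ⟨g, rfl⟩ := q.surj w
    obtain ⟨X, hX⟩ : ∃ X : Subgroup M, X = (centralizer ((L.map f : Subgroup Y) : Set Y)).comap f := ⟨_, rfl⟩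
    have hgX : g ∈ X := by rw [hX]; exact hw
    have h1 : ⁅X, L⁆ ≤ f.ker := by
      rw [commutator_le]
      intro y hy l hl
      rw [hX, mem_comap, mem_centralizer_iff] at hy
      have h3 := hy (f l) ⟨l, hl, rfl⟩
      rw [MonoidHom.mem_ker, commutatorElement_def, map_mul, map_mul, map_mul, ← h3, map_inv, map_inv]
      group
    have h3 : ⁅⁅X, L⁆, L⁆ = ⊥ := by
      rw [commutator_eq_bot_iff_le_centralizer]
      intro y hy
      rw [mem_centralizer_iff]
      intro l hl
      exact (hkerL y (MonoidHom.mem_ker.1 (h1 hy)) l hl).symm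
    have h4 := SignalizersComponents.Components.commutator_eq_bot_of_commutator_commutator_eq_bot hperf h3
    rw [commutator_eq_bot_iff_le_centralizer] at h4
    rw [mem_bot]
    exact q.ker_of_cen hev hL fun x hx => (mem_centralizer_iff.1 (h4 hgX) x hx).symm
  have hXn : (L.map f).Normal := hLn.map f q.surj
  obtain ⟨g, hg⟩ : ∃ g : ↥L →* ↥(L.map f), g = f.subgroupMap L := ⟨_, rfl⟩
  have hgs : Function.Surjective g := by rw [hg]; exact f.subgroupMap_surjective L
  have hgk : g.ker = center ↥L := by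
    ext y
    rw [MonoidHom.mem_ker, mem_center_iff, hg]
    constructor
    · intro h1 w
      have h3 : f (y : M) = 1 := congrArg Subtype.val h1
      exact Subtype.ext (hkerL _ h3 w w.2).symm
    · intro h1
      have h3 := q.ker_of_cen hev hL (g := (y : M)) fun x hx => (congrArg Subtype.val (h1 ⟨x, hx⟩)).symm
      exact Subtype.ext h3
  have hsimp : IsSimpleGroup ↥(L.map f) := by
    have hs : IsSimpleGroup (↥L ⧸ center ↥L) := hL.comp.2.2
    have e : ↥(L.map f) ≃* ↥L ⧸ center ↥L :=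
      ((QuotientGroup.quotientMulEquivOfEq hgk).symm.trans (QuotientGroup.quotientKerEquivOfSurjective g hgs)).symm
    exact e.isSimpleGroup
  refine ⟨L.map f, ⟨hXn, hsimp, ?_, hCX⟩, fun K hK => ⟨_, hL.mem K hK, rfl⟩, ?_⟩
  · intro hcm
    have h1 : L.map f ≤ centralizer ((L.map f : Subgroup Y) : Set Y) := by
      intro a ha
      rw [mem_centralizer_iff]
      intro b hb
      exact hcm b hb a ha
    rw [hCX, le_bot_iff] at h1
    have h3 : Nontrivial ↥(L.map f) := hsimp.toNontrivial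
    rw [h1] at h3
    exact not_nontrivial _ h3
  · obtain ⟨K, hK, -⟩ := q.nn
    have h1 : f (zz K) ∈ L.map f := ⟨_, hL.mem K hK, rfl⟩
    have h2 : orderOf (⟨f (zz K), h1⟩ : ↥(L.map f)) = 2 := by
      rw [Subgroup.orderOf_mk, QuoCen.orderOf_map (qm.inf_ker hK) (q.t0.hyp.zz_mem hK), q.t0.hyp.orderOf_zz hK]
    rw [← h2]
    exact orderOf_dvd_natCard _

end QT

end Cfsg.Agent.Cit.Nil.RTwoM.Quo
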