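import Cfsg.Agent.Cit.Nil.Ind.Quo
import Cfsg.Agent.Cit.Nil.Ind.SubB

/-!
# The quotient of a world by the centraliser of its members (abstract part)

`QM Om f` : `Hyp Om`, all members have order 8, `f : M →* Y` surjective, `ker f = C(⟨Om⟩)`, `f (zz K) ≠ 1`.

* `fib` : `f (zz K) = f (zz L)` : `K = L` or `K`, `L` commute; `map_inj`; `cm_lift`; `as_lift`;
* `hyp_img` : `Hyp (img f Om)`.
-/

set_option autoImplicit false
set_option linter.style.haveILetI false
set_option linter.unusedSectionVars false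

namespace Cfsg.Agent.Cit.Nil.RTwoM.Quo

open Subgroup Cfsg Cit IndDefs RTwo

/-- the quotient situation -/
structure QM {M Y : Type*} [Group M] [Group Y] (Om : Set (Subgroup M)) (f : M →* Y) : Prop where
  hyp : Hyp Om
  card : ∀ K ∈ Om, Nat.card K = 8
  surj : Function.Surjective f
  ker : ∀ g, f g = 1 ↔ ∀ K ∈ Om, ∀ k ∈ K, g * k = k * g
  no : ∀ K ∈ Om, f (zz K) ≠ 1

namespace QM

variable {M Y : Type*} [Group M] [Group Y] [Finite M] {Om : Set (Subgroup M)} {f : M →* Y} {K L : Subgroup M}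
  (q : QM Om f) {g x y : M}

include q

theorem h8 : Three.H8 Om := ⟨q.hyp, q.card⟩

theorem inj (hK : K ∈ Om) {k : M} (hk : k ∈ K) (h1 : f k = 1) : k = 1 := by
  obtain ⟨x, hx⟩ := q.h8.exists_q3 hK
  have hzf := q.no K hK
  rcases hx.cov k hk with h2 | h2 | ⟨i, h2 | h2⟩
  · exact h2
  · exact absurd (h2 ▸ h1) hzf
  · exfalso
    apply hzf
    rw [← hx.sq i, ← h2, map_mul, h1, one_mul]
  · exfalso
    apply hzf
    have e : zz K = k * k := by
      rw [h2]
      calc zz K = zz K * (zz K * (x i * x i)) := by rw [hx.sq, hx.z2, mul_one]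
        _ = zz K * (zz K * x i) * x i := by group
        _ = zz K * (x i * zz K) * x i := by rw [hx.zc]
        _ = _ := by group
    rw [e, map_mul, h1, one_mul]

theorem inf_ker (hK : K ∈ Om) : K ⊓ f.ker = ⊥ := by
  rw [eq_bot_iff]
  rintro k ⟨hk, hkf⟩
  rw [mem_bot]
  exact q.inj hK hk hkf

theorem zz_map (hK : K ∈ Om) : zz (K.map f) = f (zz K) := QuoCen.zz_map_of_inf q.hyp hK (q.inf_ker hK)

theorem card_map (hK : K ∈ Om) : Nat.card (K.map f) = 8 := by
  rw [← Nat.card_congr (QuoCen.equivMap (q.inf_ker hK)).toEquiv, q.card K hK]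

/-- two members over the same point of `Y` -/
theorem fib (hK : K ∈ Om) (hL : L ∈ Om) (h : f (zz K) = f (zz L)) : K = L ∨ Cm K L := by
  by_cases hne : K = L
  · exact Or.inl hne
  right
  refine q.hyp.comm_of_zz_comm hK hL (q.h8.isPGroup hK) (q.h8.isPGroup hL) ?_ hne
  intro a ha
  have h1 : f (zz L * (zz K)⁻¹) = 1 := by rw [map_mul, map_inv, h, mul_inv_cancel]
  have h2 := (q.ker _).1 h1 K hK a ha
  have h3 := q.hyp.comm_zz hK (le_normalizer ha)
  calc a * zz L = a * (zz L * (zz K)⁻¹) * zz K := by group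
    _ = (zz L * (zz K)⁻¹) * a * zz K := by rw [h2]
    _ = (zz L * (zz K)⁻¹) * (a * zz K) := by group
    _ = zz L * a := by rw [h3]; group

theorem map_inj (hK : K ∈ Om) (hL : L ∈ Om) (h : K.map f ≤ L.map f) : K = L := by
  obtain ⟨x, hx⟩ := q.h8.exists_q3 hK
  have h0 : K.map f = L.map f := by
    haveI : Finite Y := Finite.of_surjective f q.surj
    exact eq_of_le_of_card_ge h (by rw [q.card_map hK, q.card_map hL])
  have h1 : f (zz K) = f (zz L) := by rw [← q.zz_map hK, ← q.zz_map hL, h0]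
  rcases q.fib hK hL h1 with h2 | h2
  · exact h2
  exfalso
  have key : ∀ i, ∀ k ∈ K, x i * k = k * x i := by
    intro i k hk
    obtain ⟨l, hl, e⟩ := h ⟨x i, hx.mem i, rfl⟩
    have h3 : f (x i * l⁻¹) = 1 := by rw [map_mul, map_inv, e, mul_inv_cancel]
    have h4 := (q.ker _).1 h3 K hK k hk
    have h5 := h2 k hk l hl
    calc x i * k = (x i * l⁻¹) * (l * k) := by group
      _ = (x i * l⁻¹) * (k * l) := by rw [h5]
      _ = ((x i * l⁻¹) * k) * l := by group
      _ = (k * (x i * l⁻¹)) * l := by rw [h4]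
      _ = k * x i := by group
  have h3 := hx.conj_ne (i := 0) (j := 1) (by decide)
  rw [key 0 _ (hx.mem 1), mul_inv_cancel_right] at h3
  have h4 : zz K = 1 := by
    have h5 := hx.mem 1
    exact (mul_eq_right.1 h3.symm)
  exact hx.z1 h4

theorem cj_eq (hK : K ∈ Om) (h : cj (f g) (K.map f) ≤ K.map f) : cj g K = K := by
  refine q.map_inj (q.hyp.conj K hK g) hK ?_
  rw [cj_map]
  exact h

/-- members which commute in `Y` commute -/
theorem cm_lift (hK : K ∈ Om) (h : Cm (K.map f) (L.map f)) : Cm K L := by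
  intro k hk l hl
  have h1 : cj l K = K := by
    refine q.cj_eq hK ?_
    intro m hm
    have hm' : (f l)⁻¹ * m * f l ∈ K.map f := mem_cj.1 hm
    have h2 := h _ hm' (f l) ⟨l, hl, rfl⟩
    have h3 : m = (f l)⁻¹ * m * f l := by
      calc m = f l * ((f l)⁻¹ * m * f l) * (f l)⁻¹ := by group
        _ = (f l)⁻¹ * m * f l := by rw [← h2]; group
    rw [h3]
    exact hm'
  have h2 : l * k * l⁻¹ * k⁻¹ ∈ K := mul_mem (by
    have h3 := conj_mem_cj (g := l) hk
    rwa [h1] at h3) (inv_mem hk)
  have h3 : f (l * k * l⁻¹ * k⁻¹) = 1 := by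
    rw [map_mul, map_mul, map_mul, ← h (f k) ⟨k, hk, rfl⟩ (f l) ⟨l, hl, rfl⟩, map_inv, map_inv]
    group
  have h4 := q.inj hK h2 h3
  rw [mul_inv_eq_one, mul_inv_eq_iff_eq_mul] at h4
  exact h4.symm

/-- exact lifting of an action -/
theorem as_lift (hK : K ∈ Om) (hy : y ∈ K) (h : ∀ k ∈ K, f (g * k * g⁻¹) = f (y * k * y⁻¹)) :
    ∀ k ∈ K, g * k * g⁻¹ = y * k * y⁻¹ := by
  have h1 : cj g K = K := by
    refine q.cj_eq hK ?_
    rw [← cj_map]
    rintro _ ⟨m, hm, rfl⟩
    have hm' : g⁻¹ * m * g ∈ K := mem_cj.1 hm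
    refine ⟨y * (g⁻¹ * m * g) * y⁻¹, mul_mem (mul_mem hy hm') (inv_mem hy), ?_⟩
    rw [← h _ hm']
    congr 1
    group
  intro k hk
  have h2 : g * k * g⁻¹ * (y * k * y⁻¹)⁻¹ ∈ K := by
    have h3 := conj_mem_cj (g := g) hk
    rw [h1] at h3
    exact mul_mem h3 (inv_mem (mul_mem (mul_mem hy hk) (inv_mem hy)))
  have h3 := q.inj hK h2 (by rw [map_mul, map_inv, h k hk, mul_inv_cancel])
  exact mul_inv_eq_one.1 h3

/-- the action of a preimage on a member -/
theorem cj_lift (hK : K ∈ Om) (hL : L ∈ Om) (h : cj (f g) (K.map f) = L.map f) : cj g K = L := by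
  refine q.map_inj (q.hyp.conj K hK g) hL ?_
  rw [cj_map, h]

/-- **`Hyp` passes to `Y`** -/
theorem hyp_img : Hyp (img f Om) := by
  haveI : Fact (Nat.Prime 2) := ⟨Nat.prime_two⟩
  haveI : Finite Y := Finite.of_surjective f q.surj
  refine ⟨?_, ?_, ?_, ?_, ?_, ?_⟩
  · rintro _ ⟨K, hK, rfl⟩ g'
    obtain ⟨g, rfl⟩ := q.surj g'
    exact ⟨cj g K, q.hyp.conj K hK g, cj_map f g K⟩
  · rintro _ ⟨K, hK, rfl⟩
    exact HasQS.of_equiv (QuoCen.equivMap (q.inf_ker hK)) (q.hyp.quat K hK)
  · rintro _ ⟨K, hK, rfl⟩ t ⟨k, hk, rfl⟩ ht2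
    rw [q.zz_map hK]
    rw [QuoCen.orderOf_map (q.inf_ker hK) hk] at ht2
    rw [q.hyp.uniq K hK k hk ht2]
  · rintro _ ⟨K, hK, rfl⟩
    rw [q.zz_map hK]
    -- the members over the point, and their product
    obtain ⟨A, hA⟩ : ∃ A : Set (Subgroup M), A = {L | L ∈ Om ∧ f (zz L) = f (zz K)} := ⟨_, rfl⟩
    have mA : ∀ L, L ∈ A ↔ L ∈ Om ∧ f (zz L) = f (zz K) := fun L => by rw [hA]; rfl
    obtain ⟨R, hR⟩ : ∃ R : Subgroup M, R = sSup A := ⟨_, rfl⟩
    obtain ⟨N, hN⟩ : ∃ N : Subgroup M, N = (centralizer {f (zz K)}).comap f := ⟨_, rfl⟩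
    have mN : ∀ g, g ∈ N ↔ f g * f (zz K) = f (zz K) * f g := fun g => by
      rw [hN, mem_comap, mem_centralizer_singleton_iff]
    have hKA : K ∈ A := (mA K).2 ⟨hK, rfl⟩
    have hKR : K ≤ R := by rw [hR]; exact le_sSup hKA
    have hAN : ∀ L ∈ A, L ≤ N := by
      intro L hL l hl
      obtain ⟨h1, h2⟩ := (mA L).1 hL
      rw [mN, ← h2, ← map_mul, ← map_mul, q.hyp.comm_zz h1 (le_normalizer hl)]
    have hRN : R ≤ N := by rw [hR]; exact sSup_le hAN
    have hNA : ∀ g ∈ N, ∀ L ∈ A, cj g L ∈ A := by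
      intro g hg L hL
      obtain ⟨h1, h2⟩ := (mA L).1 hL
      refine (mA _).2 ⟨q.hyp.conj L h1 g, ?_⟩
      rw [q.hyp.zz_cj h1, map_mul, map_mul, h2, (mN g).1 hg, map_inv, mul_inv_cancel_right]
    have hNR : N ≤ normalizer (R : Set M) := by
      intro g hg
      have key : ∀ g ∈ N, cj g R ≤ R := by
        intro g hg
        have h1 : R ≤ R.comap (MulAut.conj g).toMonoidHom := by
          conv_lhs => rw [hR]
          refine sSup_le fun L hL x hx => ?_
          have h2 : g * x * g⁻¹ ∈ cj g L := conj_mem_cj hx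
          have h3 : cj g L ≤ R := by rw [hR]; exact le_sSup (hNA g hg L hL)
          exact h3 h2
        intro x hx
        have hx' : g⁻¹ * x * g ∈ R := mem_cj.1 hx
        have h2 := h1 hx'
        have h3 : g * (g⁻¹ * x * g) * g⁻¹ ∈ R := h2
        have h4 : g * (g⁻¹ * x * g) * g⁻¹ = x := by group
        rwa [h4] at h3
      rw [mem_normalizer_iff_cj]
      refine le_antisymm (key g hg) ?_
      have h1 := cj_mono g (key g⁻¹ (inv_mem hg))
      rwa [cj_cj_inv] at h1
    have hRK : R ≤ normalizer (K : Set M) := by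
      rw [hR]
      refine sSup_le fun L hL => ?_
      obtain ⟨h1, h2⟩ := (mA L).1 hL
      rcases q.fib h1 hK h2 with h3 | h3
      · rw [h3]; exact le_normalizer
      · exact (Ind.Red.Cm_iff_le.1 h3).trans (centralizer_le_normalizer _)
    have h1 : (K.subgroupOf N).IsSubnormal := by
      refine IsSubnormal.trans (H := K.subgroupOf N) (K := R.subgroupOf N) (fun x hx => hKR hx) ?_
        ((normal_subgroupOf_iff_le_normalizer hRN).2 hNR).isSubnormal
      have h2 : (K.subgroupOf R).Normal := (normal_subgroupOf_iff_le_normalizer hKR).2 hRK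
      let e : (R.subgroupOf N) →* R :=
        { toFun := fun x => ⟨((x : N) : M), x.2⟩
          map_one' := rfl
          map_mul' := fun _ _ => rfl }
      convert h2.isSubnormal.comap e using 1
      ext x
      rfl
    let φ : N →* centralizer {f (zz K)} :=
      { toFun := fun x => ⟨f x, mem_centralizer_singleton_iff.2 ((mN _).1 x.2)⟩
        map_one' := by apply Subtype.ext; simp
        map_mul' := fun x y => by apply Subtype.ext; simp }
    have hφ : Function.Surjective φ := by
      rintro ⟨x, hx⟩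
      obtain ⟨g, rfl⟩ := q.surj x
      exact ⟨⟨g, (mN g).2 (mem_centralizer_singleton_iff.1 hx)⟩, rfl⟩
    convert h1.map hφ using 1
    ext x
    simp only [mem_subgroupOf, mem_map]
    constructor
    · rintro ⟨k, hk, hkx⟩
      exact ⟨⟨k, hAN K hKA hk⟩, hk, Subtype.ext hkx⟩
    · rintro ⟨k, hk, rfl⟩
      exact ⟨k, hk, rfl⟩
  · rintro _ ⟨K, hK, rfl⟩ _ ⟨L, hL, rfl⟩ hKL
    rw [q.zz_map hK, q.zz_map hL] at hKL
    rcases q.fib hK hL hKL with h1 | h1
    · left; rw [h1]
    · right
      have h2 : ⁅K.map f, L.map f⁆ = ⊥ := by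
        rw [commutator_eq_bot_iff_le_centralizer]
        rintro _ ⟨k, hk, rfl⟩
        rw [mem_centralizer_iff]
        rintro _ ⟨l, hl, rfl⟩
        rw [← map_mul, ← map_mul, h1 k hk l hl]
      rw [h2]
      exact bot_le
  · rintro _ ⟨K, hK, rfl⟩ _ ⟨L, hL, rfl⟩ _ ⟨y, hy, rfl⟩ hy2 hy4 hyz
    rw [q.zz_map hL] at hyz
    rw [QuoCen.orderOf_map (q.inf_ker hK) hy] at hy4
    obtain ⟨x, hx⟩ := q.h8.exists_q3 hK
    have hyy : y * y = zz K := by
      rcases hx.cov y hy with h1 | h1 | ⟨i, h1 | h1⟩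
      · rw [h1, orderOf_one] at hy4; omega
      · rw [h1, q.hyp.orderOf_zz hK] at hy4; omega
      · rw [h1, hx.sq]
      · rw [h1]
        calc zz K * x i * (zz K * x i) = zz K * (x i * zz K) * x i := by group
          _ = zz K * (zz K * x i) * x i := by rw [hx.zc]
          _ = (zz K * zz K) * (x i * x i) := by group
          _ = zz K := by rw [hx.z2, hx.sq, one_mul]
    have hy2' : IsPGroup 2 (zpowers y) := (q.h8.isPGroup hK).to_le (zpowers_le.2 hy)
    have htt := q.hyp.zz_mul hL
    have htz := q.hyp.zz_inv hL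
    -- `c = [y, t]` centralises all members
    obtain ⟨c, hc⟩ : ∃ c, c = zz L * y * (zz L)⁻¹ * y⁻¹ := ⟨_, rfl⟩
    have hfc : f c = 1 := by
      rw [hc, map_mul, map_mul, map_mul, map_inv, map_inv, ← hyz]
      group
    have hcK := (q.ker c).1 hfc
    have h1 : y * zz L = zz L * y := by
      have e1 : zz L * y * (zz L)⁻¹ = c * y := by rw [hc]; group
      have e2 : c * y ∈ cj (zz L) K := by rw [← e1]; exact conj_mem_cj hy
      -- the involution of `K^t` is `z c²`; `t` has order two, so `c * c = 1`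
      have e3 : c * c = 1 := by
        have e4 : zz L * (c * y) * (zz L)⁻¹ = y := by
          rw [← e1]
          calc zz L * (zz L * y * (zz L)⁻¹) * (zz L)⁻¹ = (zz L * zz L) * y * (zz L * zz L)⁻¹ := by group
            _ = y := by rw [htt]; group
        have e5 : zz L * c * (zz L)⁻¹ = c := by
          rw [← hcK L hL _ (q.hyp.zz_mem hL)]; group
        have e6 : c * (c * y) = y := by
          calc c * (c * y) = (zz L * c * (zz L)⁻¹) * (zz L * y * (zz L)⁻¹) := by rw [e5, e1]
            _ = zz L * (c * y) * (zz L)⁻¹ := by group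
            _ = y := e4
        rw [← mul_assoc] at e6
        exact mul_eq_right.1 e6
      have e7 : (c * y) * (c * y) = zz K := by
        calc (c * y) * (c * y) = c * (y * c) * y := by group
          _ = c * (c * y) * y := by rw [hcK K hK y hy]
          _ = (c * c) * (y * y) := by group
          _ = zz K := by rw [e3, one_mul, hyy]
      have e8 : zz (cj (zz L) K) = zz K := by
        symm
        refine q.hyp.uniq _ (q.hyp.conj K hK _) _ ?_ (q.hyp.orderOf_zz hK)
        rw [← e7]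
        exact mul_mem e2 e2
      have e9 : c = 1 := by
        rcases q.fib (q.hyp.conj K hK (zz L)) hK (by rw [e8]) with h2 | h2
        · rw [h2] at e2
          have h3 : c ∈ K := by
            have := mul_mem e2 (inv_mem hy)
            rwa [mul_inv_cancel_right] at this
          exact q.inj hK h3 hfc
        · exfalso
          -- `y` is central in `K`
          have h3 : ∀ k ∈ K, y * k = k * y := by
            intro k hk
            have h4 := h2 _ e2 k hk
            have h5 := hcK K hK k hk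
            have h6 : c * (y * k) = c * (k * y) := by
              calc c * (y * k) = c * y * k := by group
                _ = k * (c * y) := h4
                _ = (k * c) * y := by group
                _ = (c * k) * y := by rw [h5]
                _ = c * (k * y) := by group
            exact mul_left_cancel h6
          rcases hx.cent hy (i := 0) (j := 1) (by decide) (h3 _ (hx.mem 0)) (h3 _ (hx.mem 1)) with h4 | h4
          · rw [h4, orderOf_one] at hy4; omega
          · rw [h4, q.hyp.orderOf_zz hK] at hy4; omega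
      rw [e9, one_mul, mul_inv_eq_iff_eq_mul] at e1
      exact e1.symm
    have h2 := q.hyp.h3 K hK L hL y hy hy2' hy4 h1
    rw [mem_normalizer_iff_cj] at h2 ⊢
    rw [← cj_map, h2]

end QM

end Cfsg.Agent.Cit.Nil.RTwoM.Quo
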