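import Cfsg.Agent.Cit.Nil.RTwoM.AN.BigDef
import Cfsg.Agent.Cit.Nil.RTwoM.JArg

/-!
# S1309, `r = 2`, `AN(s)`, `m = 2`: every `z` has at most one C-partner

Text: helper735, bb R18 #20490 (1), #20780. `N` is a normal 2-subgroup of `C(z)` which contains two C-partners.

* `inf_RZ` (1a): `N ∩ R_u = ⟨u⟩`;
* `cap_cases` : `R_v ∩ CX z = {1, q₂}` for a common TI partner `v = q₁ q₂` of `z` and `u`;
* `no_comm` (1c): two C-partners of `z` in `N` do not commute;
* **`a0_unique`**.
-/

set_option autoImplicit false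
set_option linter.style.haveILetI false
set_option linter.unusedSectionVars false

namespace Cfsg.Agent.Cit.Nil.RTwoM

open Subgroup Cfsg Cfsg.Agent.Cit

open RTwo (Q3 Act i11 i12 i21 i22 i_ne1 i_ne2 i_ne12 i_cases i_cases3)
open RG (WR CP Ov InO)

variable {G : Type*} [Group G] {Om : Set (Subgroup G)} {K L M N : Subgroup G} {a c d s t u v x y z g k l : G}

variable [Finite G]

theorem Mem.exists_ord (hK : Mem Om z K) (h : WM Om) : ∃ y ∈ K, y * y = z := by
  obtain ⟨x, qx⟩ := h.exists_q3 hK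
  exact ⟨x 0, qx.mem 0, qx.sq 0⟩

theorem Mem.mul_sq (hK : Mem Om z K) (h : WM Om) (hy : y ∈ K) (hyy : y * y = z) (hk : k ∈ K) (hkk : k * k = z)
    (hne : y * k ≠ k * y) : k * y * (k * y) = z := by
  have h1 := hK.anti h hk hkk hy hyy (Ne.symm hne)
  -- `y k y⁻¹ = z k`
  have h2 : y * k = z * k * y := by rw [← h1]; group
  calc k * y * (k * y) = k * (y * k) * y := by group
    _ = k * (z * k * y) * y := by rw [h2]
    _ = (k * z) * k * (y * y) := by group
    _ = (z * k) * k * z := by rw [hK.comm_z h hk, hyy]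
    _ = z * (k * k) * z := by group
    _ = z := by rw [hkk, hK.inZ.z2 h, one_mul]

/-- `u` acts on `L` as `z` does if `z u` centralises `L` -/
theorem As.of_mul (hzz : z * z = 1) (hcx : ∀ k ∈ L, z * u * k = k * (z * u)) (hl : As L z l) : As L u l := by
  refine ⟨hl.1, fun k hk => ?_⟩
  have hz : z⁻¹ = z := inv_eq_of_mul_eq_one_right hzz
  rw [← hl.2 k hk]
  have h1 := hcx k hk
  have h2 : u * k = z⁻¹ * k * z * u := by
    calc u * k = z⁻¹ * (z * u * k) := by group
      _ = z⁻¹ * (k * (z * u)) := by rw [h1]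
      _ = _ := by group
  rw [h2, mul_inv_cancel_right, hz]

section OneA

variable (h : WM Om) (hN : IsPGroup 2 N) (hNz : centralizer {z} ≤ normalizer (N : Set G)) (hu : InZ Om u)
  (hzu : CP Om z u) (huN : u ∈ N) (yf : YF Om z u)

include h hNz hu hzu huN yf

/-- the commutator with a quarter turn -/
theorem mem_of_turn (hK : Mem Om u K) (hL : Mem Om u L) (hne : K ≠ L) (hk : k ∈ K) (hkk : k * k = u) (hl : l ∈ L)
    (hkl : k * l ∈ N) (hy : y ∈ K) (hyy : y * y = u) (hyk : y * k ≠ k * y) : y ∈ N := by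
  have huu := hu.z2 h
  -- `y'` of order 4 commuting with `l`
  obtain ⟨y', hy', hyy', hyl⟩ : ∃ y' ∈ L, y' * y' = u ∧ y' * l = l * y' := by
    rcases hL.sq_cases h hl with h1 | h1 | h1
    · obtain ⟨y', h2, h3⟩ := hL.exists_ord h
      exact ⟨y', h2, h3, by rw [h1, mul_one, one_mul]⟩
    · obtain ⟨y', h2, h3⟩ := hL.exists_ord h
      exact ⟨y', h2, h3, by rw [h1]; exact hL.comm_z h h2⟩
    · exact ⟨l, hl, h1, rfl⟩
  obtain ⟨v, tz, tu, a1, a2⟩ := yf K L y y' hK hL hne hy hyy hy' hyy'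
  obtain ⟨V, hV⟩ := tz.inT
  obtain ⟨m, hm, hmm⟩ := (tz.symm h).exists_as h hV
  have hcx := tt_II_cx h hzu (tz.symm h) (tu.symm h)
  have hmu : As V u m := hm.of_mul (tz.inZ.z2 h) fun k hk => mem_CX.1 hcx V hV k hk
  have r1 := (tu.symm h).rot h hV hK hmu a1
  have r2 := (tu.symm h).rot h hV hL hmu a2
  have hmz : m * z = z * m := hm.comm.symm
  have hmu' : m * u = u * m := hmu.comm.symm
  -- `m` commutes with `l`
  have hml : m * l = l * m := by
    rcases hL.of_comm h hy' hyy' hl hyl with h1 | h1 | h1 | h1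
    · rw [h1, mul_one, one_mul]
    · rw [h1, hmu']
    · rw [h1, r2.2.1]
    · rw [h1, ← mul_assoc, hmu', mul_assoc, r2.2.1, mul_assoc]
  have h1 : m * (k * l) * m⁻¹ * (k * l)⁻¹ = m * k * m⁻¹ * k⁻¹ := by
    calc m * (k * l) * m⁻¹ * (k * l)⁻¹ = m * k * (l * m⁻¹) * l⁻¹ * k⁻¹ := by group
      _ = m * k * (m⁻¹ * l) * l⁻¹ * k⁻¹ := by
          rw [show l * m⁻¹ = m⁻¹ * l by rw [eq_inv_mul_iff_mul_eq, ← mul_assoc, hml, mul_inv_cancel_right]]
      _ = _ := by group
  have h2 : m * (k * l) * m⁻¹ * (k * l)⁻¹ ∈ N :=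
    mul_mem ((mem_normalizer_iff.1 (hNz (mem_centralizer_singleton_iff.2 hmz)) _).1 hkl) (inv_mem hkl)
  rw [h1] at h2
  rcases r1.2.2 k hk hkk hyk with h3 | h3
  · rwa [h3, mul_inv_cancel_right] at h2
  · rw [h3] at h2
    have h4 : u * (y * k) * k⁻¹ = u * y := by group
    rw [h4] at h2
    have h5 := mul_mem (inv_mem huN) h2
    rwa [inv_mul_cancel_left] at h5

theorem le_of_turn (hK : Mem Om u K) (hL : Mem Om u L) (hne : K ≠ L) (hk : k ∈ K) (hkk : k * k = u) (hl : l ∈ L)
    (hkl : k * l ∈ N) : K ≤ N := by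
  have key : ∀ y ∈ K, y * y = u → y * k ≠ k * y → y ∈ N := fun y hy hyy hyk =>
    mem_of_turn h hNz hu hzu huN yf hK hL hne hk hkk hl hkl hy hyy hyk
  obtain ⟨y, hy, hyy, hyk⟩ := hK.exists_nc h hk hkk
  have hyN := key y hy hyy (Ne.symm hyk)
  have hkN : k ∈ N := by
    have h1 : k * y ∈ N := by
      refine key (k * y) (mul_mem hk hy) (hK.mul_sq h hy hyy hk hkk (Ne.symm hyk)) fun h2 => hyk ?_
      rw [mul_assoc] at h2
      exact (mul_left_cancel h2).symm
    have h2 := mul_mem h1 (inv_mem hyN)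
    rwa [mul_inv_cancel_right] at h2
  intro w hw
  rcases hK.sq_cases h hw with h1 | h1 | h1
  · rw [h1]; exact one_mem _
  · rw [h1]; exact huN
  · by_cases hc : k * w = w * k
    · rcases hK.of_comm h hk hkk hw hc with h2 | h2 | h2 | h2
      · rw [h2]; exact one_mem _
      · rw [h2]; exact huN
      · rw [h2]; exact hkN
      · rw [h2]; exact mul_mem huN hkN
    · exact key w hw h1 fun h2 => hc h2.symm

include hN

/-- **(1a)** -/
theorem inf_RZ (hz : InZ Om z) (ha : InZ Om a) (hza : CP Om z a) (hua : u ≠ a) (hn : ¬ CP Om u a) (hg : g ∈ N)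
    (hgu : g ∈ RZ Om u) : g = 1 ∨ g = u := by
  have huu := hu.z2 h
  obtain ⟨K, hK⟩ := id hu
  obtain ⟨Ka, hKa⟩ := id ha
  -- no member over `u` lies in `N`
  have hno : ∀ K, Mem Om u K → ¬ K ≤ N := by
    intro K hK hle
    have h1 : Ka ≤ normalizer (N : Set G) := by
      refine le_trans (fun w hw => ?_) hNz
      rw [mem_centralizer_singleton_iff]
      exact (cp_RZ h hza (z_mem_RZ hz h) (hKa.le_RZ hw)).symm
    have h2 : IsPGroup 2 ↥(Ka ⊔ N) := (h.isPGroup hKa.1).to_sup_of_normal_right' hN h1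
    have hne : K ≠ Ka := by
      rintro rfl
      exact hua (hK.2.symm.trans hKa.2)
    have h3 := com h h2 hK.1 hKa.1 (hle.trans le_sup_right) le_sup_left hne
    exact hn (cp_of_cen h hK ha hua fun k hk => (h3 k hk a (hKa.zmem h)).symm)
  obtain ⟨L, hL, hne, -⟩ := hK.other h
  obtain ⟨k, hk, l, hl, rfl⟩ := (mem_RZ hK hL h hne).1 hgu
  rcases hK.sq_cases h hk with h1 | h1 | h1
  · rcases hL.sq_cases h hl with h2 | h2 | h2
    · left; rw [h1, h2, mul_one]
    · right; rw [h1, h2, one_mul]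
    · exfalso
      refine hno L hL (le_of_turn h hNz hu hzu huN yf hL hK hne.symm hl h2 hk ?_)
      rwa [← hK.comm hL h hne hk hl]
  · rcases hL.sq_cases h hl with h2 | h2 | h2
    · right; rw [h1, h2, mul_one]
    · left; rw [h1, h2, huu]
    · exfalso
      refine hno L hL (le_of_turn h hNz hu hzu huN yf hL hK hne.symm hl h2 hk ?_)
      rwa [← hK.comm hL h hne hk hl]
  · exact absurd (le_of_turn h hNz hu hzu huN yf hK hL hne hk h1 hl hg) (hno K hK)

end OneA

/-! ### `R_v ∩ CX z` -/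

/-- `m` and `v m` are not in `CX z` -/
theorem not_cx_of_as (h : WM Om) (tz : TI Om z v) (hV : Mem Om v L) {m n : G} (hm : As L z m)
    (hn : n = m ∨ n = v * m) : n ∉ CX Om z := by
  intro hc
  obtain ⟨K, hK⟩ := tz.inZ
  obtain ⟨y, hy, hyy⟩ := tz.exists_as h hK
  have b := (tz.symm h).rot h hV hK hm hy
  have hzz := tz.inZ.z2 h
  obtain ⟨w, hw, hww, hyw⟩ := hK.exists_nc h hy.1 hyy
  have h1 := b.2.2 w hw hww hyw
  -- `m w m⁻¹ = w` or `z w`
  have h2 : m * w * m⁻¹ = w ∨ m * w * m⁻¹ = z * w := by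
    have h3 := mem_CX.1 hc K hK w hw
    rcases hn with rfl | rfl
    · left; rw [h3, mul_inv_cancel_right]
    · right
      have h4 : m * w * m⁻¹ = v⁻¹ * w * v := by
        calc m * w * m⁻¹ = v⁻¹ * (v * m * w) * m⁻¹ := by group
          _ = v⁻¹ * (w * (v * m)) * m⁻¹ := by rw [h3]
          _ = _ := by group
      have h5 : v * w * v⁻¹ = z * w := by rw [hy.2 w hw, hK.anti h hw hww hy.1 hyy (Ne.symm hyw)]
      rw [h4]
      have hvi : v⁻¹ = v := tz.inT.inv h
      have h6 : v⁻¹ * w * v = v * w * v⁻¹ := by rw [hvi]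
      rw [h6, h5]
  have key : y = 1 ∨ y = z := by
    rcases h1 with h1 | h1 <;> rcases h2 with h2 | h2 <;> rw [h2] at h1
    · left; exact (right_eq_mul.1 h1)
    · right; exact (mul_right_cancel h1).symm
    · right
      rw [← mul_assoc] at h1
      have h3 := right_eq_mul.1 h1
      rw [← hzz] at h3
      exact (mul_left_cancel h3)
    · left
      have h3 := mul_left_cancel h1
      exact right_eq_mul.1 h3
  rcases key with h3 | h3
  · rw [h3, mul_one] at hyy; exact tz.inZ.z1 h hyy.symm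
  · rw [h3, hzz] at hyy; exact tz.inZ.z1 h hyy.symm

/-- an element of `V` moved by the quarter turn `y` only by the centre commutes with the axis -/
theorem comm_of_turn (h : WM Om) (tz : TI Om z v) (hK : Mem Om z K) (hV : Mem Om v L) {m : G} (hy : As K v y)
    (hm : As L z m) (hk : k ∈ L) (hc : y * k * y⁻¹ = k ∨ y * k * y⁻¹ = v * k) : m * k = k * m := by
  have r := tz.rot h hK hV hy hm
  have hmm := (tz.symm h).sq_of_as h hV hm
  rcases hV.sq_cases h hk with h1 | h1 | h1
  · rw [h1, mul_one, one_mul]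
  · rw [h1, hV.comm_z h hm.1]
  · by_contra hne
    have hvv := tz.inT.z2 h
    have key : m = 1 ∨ m = v := by
      rcases r.2.2 k hk h1 hne with h2 | h2 <;> rcases hc with h3 | h3 <;> rw [h3] at h2
      · left; exact right_eq_mul.1 h2
      · right; exact (mul_right_cancel h2).symm
      · right
        rw [← mul_assoc] at h2
        have h4 := right_eq_mul.1 h2
        rw [← hvv] at h4
        exact mul_left_cancel h4
      · left
        exact right_eq_mul.1 (mul_left_cancel h2)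
    rcases key with h3 | h3
    · rw [h3, mul_one] at hmm; exact tz.inT.z1 h hmm.symm
    · rw [h3, hvv] at hmm; exact tz.inT.z1 h hmm.symm

/-- the elements of `R_v ∩ CX z` for a TI pair `(z,v)`: `1` or `g` with `g` inducing `z` on the members over `v` -/
theorem cap_cases (h : WM Om) (tz : TI Om z v) (hg : g ∈ RZ Om v) (hgz : g ∈ CX Om z) :
    g = 1 ∨ z * g ∈ CX Om v := by
  obtain ⟨V, hV⟩ := tz.inT
  obtain ⟨V', hV', hne, hall⟩ := hV.other h
  obtain ⟨K, hK⟩ := tz.inZ
  obtain ⟨y, hy, hyy⟩ := tz.exists_as h hK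
  obtain ⟨m, hm, hmm⟩ := (tz.symm h).exists_as h hV
  obtain ⟨m', hm', hmm'⟩ := (tz.symm h).exists_as h hV'
  have r := tz.rot h hK hV hy hm
  have r' := tz.rot h hK hV' hy hm'
  have hvv := tz.inT.z2 h
  have hvz : v ∉ CX Om z := (tz.symm h).not_mem_CX h
  obtain ⟨k, hk, l, hl, rfl⟩ := (mem_RZ hV hV' h hne).1 hg
  have hyg : y * (k * l) * y⁻¹ = k * l := by
    have h1 := mem_CX.1 hgz K hK y hy.1
    rw [← h1, mul_inv_cancel_right]
  have hyl : y * l * y⁻¹ ∈ V' := by
    have h1 := conj_mem_cj (g := y) hl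
    rwa [r'.1] at h1
  have hyk : y * k * y⁻¹ ∈ V := by
    have h1 := conj_mem_cj (g := y) hk
    rwa [r.1] at h1
  have e1 : (k)⁻¹ * (y * k * y⁻¹) = l * (y * l * y⁻¹)⁻¹ := by
    have h1 : y * k * y⁻¹ * (y * l * y⁻¹) = k * l := by rw [← hyg]; group
    rw [inv_mul_eq_iff_eq_mul, ← mul_assoc, ← h1, mul_inv_cancel_right]
  have hcap : (k)⁻¹ * (y * k * y⁻¹) = 1 ∨ (k)⁻¹ * (y * k * y⁻¹) = v :=
    hV.inf hV' h hne (mul_mem (inv_mem hk) hyk) (by rw [e1]; exact mul_mem hl (inv_mem hyl))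
  have hkv : k * v = v * k := hV.comm_z h hk
  have hlv : l * v = v * l := hV'.comm_z h hl
  have hck : m * k = k * m := by
    refine comm_of_turn h tz hK hV hy hm hk ?_
    rcases hcap with h1 | h1
    · left; rw [inv_mul_eq_one] at h1; exact h1.symm
    · right; rw [inv_mul_eq_iff_eq_mul, hkv] at h1; exact h1
  have hcl : m' * l = l * m' := by
    refine comm_of_turn h tz hK hV' hy hm' hl ?_
    rw [e1] at hcap
    rcases hcap with h1 | h1
    · left; rw [mul_inv_eq_one] at h1; exact h1.symm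
    · right
      rw [mul_inv_eq_iff_eq_mul] at h1
      calc y * l * y⁻¹ = (v * v) * (y * l * y⁻¹) := by rw [hvv, one_mul]
        _ = v * (v * (y * l * y⁻¹)) := by rw [mul_assoc]
        _ = v * l := by rw [← h1]
  have hk4 := hV.of_comm h hm.1 hmm hk hck
  have hl4 := hV'.of_comm h hm'.1 hmm' hl hcl
  have hmv : m * v = v * m := hV.comm_z h hm.1
  have hmv' : m' * v = v * m' := hV'.comm_z h hm'.1
  -- the two kinds
  have hk2 : (k = 1 ∨ k = v) ∨ (k = m ∨ k = v * m) := by
    rcases hk4 with h1 | h1 | h1 | h1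
    exacts [Or.inl (Or.inl h1), Or.inl (Or.inr h1), Or.inr (Or.inl h1), Or.inr (Or.inr h1)]
  have hl2 : (l = 1 ∨ l = v) ∨ (l = m' ∨ l = v * m') := by
    rcases hl4 with h1 | h1 | h1 | h1
    exacts [Or.inl (Or.inl h1), Or.inl (Or.inr h1), Or.inr (Or.inl h1), Or.inr (Or.inr h1)]
  rcases hk2 with hk2 | hk2 <;> rcases hl2 with hl2 | hl2
  · have h1 : k * l = 1 ∨ k * l = v := by
      rcases hk2 with rfl | rfl <;> rcases hl2 with rfl | rfl
      · left; rw [mul_one]
      · right; rw [one_mul]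
      · right; rw [mul_one]
      · left; exact hvv
    rcases h1 with h1 | h1
    · exact Or.inl h1
    · rw [h1] at hgz; exact absurd hgz hvz
  · exfalso
    refine not_cx_of_as h tz hV' hm' ?_ hgz
    rcases hk2 with rfl | rfl <;> rcases hl2 with rfl | rfl
    · left; rw [one_mul]
    · right; rw [one_mul]
    · right; rfl
    · left; rw [← mul_assoc, hvv, one_mul]
  · exfalso
    refine not_cx_of_as h tz hV hm ?_ hgz
    rcases hk2 with rfl | rfl <;> rcases hl2 with rfl | rfl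
    · left; rw [mul_one]
    · right; exact hmv
    · right; rw [mul_one]
    · left; rw [mul_assoc, hmv, ← mul_assoc, hvv, one_mul]
  · right
    have hzi : z⁻¹ = z := tz.inZ.inv h
    rw [mem_CX]
    have key : ∀ V, Mem Om v V → ∃ m, As V z m ∧ As V (k * l) m := by
      intro W hW
      rcases hall W hW with rfl | rfl
      · refine ⟨m, hm, hm.1, fun w hw => ?_⟩
        have h1 : l * w = w * l := (hV.comm hV' h hne hw hl).symm
        have h2 : k * w * k⁻¹ = m * w * m⁻¹ := by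
          rcases hk2 with rfl | rfl
          · rfl
          · have h3 : m * w * m⁻¹ ∈ W := mul_mem (mul_mem hm.1 hw) (inv_mem hm.1)
            calc v * m * w * (v * m)⁻¹ = v * (m * w * m⁻¹) * v⁻¹ := by group
              _ = m * w * m⁻¹ := by rw [← hV.comm_z h h3, mul_inv_cancel_right]
        calc k * l * w * (k * l)⁻¹ = k * (l * w * l⁻¹) * k⁻¹ := by group
          _ = k * w * k⁻¹ := by rw [h1, mul_inv_cancel_right]
          _ = _ := h2
      · refine ⟨m', hm', hm'.1, fun w hw => ?_⟩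
        have h2 : l * w * l⁻¹ = m' * w * m'⁻¹ := by
          rcases hl2 with rfl | rfl
          · rfl
          · have h3 : m' * w * m'⁻¹ ∈ W := mul_mem (mul_mem hm'.1 hw) (inv_mem hm'.1)
            calc v * m' * w * (v * m')⁻¹ = v * (m' * w * m'⁻¹) * v⁻¹ := by group
              _ = m' * w * m'⁻¹ := by rw [← hV'.comm_z h h3, mul_inv_cancel_right]
        have h3 : l * w * l⁻¹ ∈ W := mul_mem (mul_mem hl hw) (inv_mem hl)
        calc k * l * w * (k * l)⁻¹ = k * (l * w * l⁻¹) * k⁻¹ := by group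
          _ = l * w * l⁻¹ := by rw [hV.comm hV' h hne hk h3, mul_inv_cancel_right]
          _ = _ := h2
    intro W hW w hw
    obtain ⟨n, h1, h2⟩ := key W hW
    have h3 : k * l * w * (k * l)⁻¹ = z * w * z⁻¹ := by rw [h2.2 w hw, h1.2 w hw]
    have h4 : k * l * w = z * w * z⁻¹ * (k * l) := by rw [← h3]; group
    calc z * (k * l) * w = z * (k * l * w) := by group
      _ = z * (z * w * z⁻¹ * (k * l)) := by rw [h4]
      _ = (z * z) * w * z⁻¹ * (k * l) := by group
      _ = w * (z * (k * l)) := by rw [tz.inZ.z2 h, hzi, one_mul, mul_assoc]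

/-! ### (1c) -/

/-- `y` of order 4 is not `1`, `u` -/
theorem Mem.no_center (hK : Mem Om u K) (h : WM Om) (hyy : y * y = u) (hy : y = 1 ∨ y = u) : False := by
  rcases hy with h1 | h1
  · rw [h1, mul_one] at hyy; exact hK.inZ.z1 h hyy.symm
  · rw [h1, hK.inZ.z2 h] at hyy; exact hK.inZ.z1 h hyy.symm

/-- `v q ∈ CX u`, `v` acts on `K` as `y`, `q = k l`: `k = y` or `u y` -/
theorem comp_eq (h : WM Om) (hK : Mem Om u K) (hL : Mem Om u L) (hne : K ≠ L) (hv : As K v y) (hyy : y * y = u)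
    (hk : k ∈ K) (hl : l ∈ L) (hq : v * (k * l) ∈ CX Om u) : k = y ∨ k = u * y := by
  have huu := hK.inZ.z2 h
  have h1 : As K (k * l) k := by
    refine ⟨hk, fun w hw => ?_⟩
    have h2 : l * w = w * l := (hK.comm hL h hne hw hl).symm
    calc k * l * w * (k * l)⁻¹ = k * (l * w * l⁻¹) * k⁻¹ := by group
      _ = k * w * k⁻¹ := by rw [h2, mul_inv_cancel_right]
  have h3 : As K (v * (k * l)) 1 := As.one_iff.2 (mem_CX.1 hq K hK)
  have h4 := hv.inv.mul h3
  have e : v⁻¹ * (v * (k * l)) = k * l := by group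
  rw [e, mul_one] at h4
  have h5 : y⁻¹ = u * y := hK.inv_eq h hv.1 hyy
  rcases hK.as_unique h h4 h1 with h6 | h6
  · right; rw [h6, h5]
  · left; rw [h6, h5, ← mul_assoc, huu, one_mul]

/-- `a` acts on `K` as `q`, `k = y` or `u y`, `y` does not commute with `q` -/
theorem conj_comp (h : WM Om) (hK : Mem Om u K) (ha : As K a s) (hs : s * s = u) (hy : y ∈ K) (hyy : y * y = u)
    (hne : y * s ≠ s * y) (hk : k = y ∨ k = u * y) (hau : a * u = u * a) : a * k * a⁻¹ = u * k := by
  have h1 : a * y * a⁻¹ = u * y := by rw [ha.2 y hy, hK.anti h hy hyy ha.1 hs hne]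
  rcases hk with rfl | rfl
  · exact h1
  · calc a * (u * y) * a⁻¹ = (a * u) * y * a⁻¹ := by group
      _ = u * (a * y * a⁻¹) := by rw [hau]; group
      _ = _ := by rw [h1]

/-- **(1c)** two C-partners of `z` in a normal 2-subgroup of `C(z)` do not commute -/
theorem no_comm (h : WM Om) (hN : IsPGroup 2 N) (hNz : centralizer {z} ≤ normalizer (N : Set G)) (hz : InZ Om z)
    (hu : InZ Om u) (ha : InZ Om a) (hzu : CP Om z u) (hza : CP Om z a) (hua : u ≠ a) (hn : ¬ CP Om u a)
    (huN : u ∈ N) (haN : a ∈ N) (yf : YF Om z u) (hau : a * u = u * a) : False := by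
  have inf : ∀ g ∈ N, g ∈ RZ Om u → g = 1 ∨ g = u := fun g hg hgu =>
    inf_RZ h hN hNz hu hzu huN yf hz ha hza hua hn hg hgu
  have huu := hu.z2 h
  have nrm : ∀ g, g * z = z * g → ∀ w ∈ N, g * w * g⁻¹ ∈ N := fun g hg w hw =>
    (mem_normalizer_iff.1 (hNz (mem_centralizer_singleton_iff.2 hg)) w).1 hw
  -- `a` is inner on `R_u`
  have hinn : Inn Om u a := by
    intro K hK w hw
    have hwz : w * z = z * w := (cp_RZ h hzu (z_mem_RZ hz h) (hK.le_RZ hw)).symm
    have h1 : a * w * a⁻¹ * w⁻¹ ∈ N := by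
      have h2 := mul_mem haN (nrm w hwz a⁻¹ (inv_mem haN))
      have e : a * (w * a⁻¹ * w⁻¹) = a * w * a⁻¹ * w⁻¹ := by group
      rwa [e] at h2
    have h2 : a * w * a⁻¹ * w⁻¹ ∈ RZ Om u := mul_mem (RZ_conj_comm h hau (hK.le_RZ hw)) (inv_mem (hK.le_RZ hw))
    rcases inf _ h1 h2 with h3 | h3
    · left; rwa [mul_inv_eq_one] at h3
    · right; rwa [mul_inv_eq_iff_eq_mul] at h3
  have tua : TI Om u a := by
    rcases hinn.cases h hu ha with h1 | h1 | h1
    · exact absurd h1 hua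
    · exact absurd h1 hn
    · exact h1
  obtain ⟨K, hK⟩ := id hu
  obtain ⟨L, hL, hne, -⟩ := hK.other h
  obtain ⟨q, hq, hqq⟩ := tua.exists_as h hK
  obtain ⟨r, hr, hrr⟩ := tua.exists_as h hL
  obtain ⟨y, hy, hyy, hqy⟩ := hK.exists_nc h hq.1 hqq
  obtain ⟨x, hx, hxx, hrx⟩ := hL.exists_nc h hr.1 hrr
  obtain ⟨v, tz, tu, av, av'⟩ := yf K L y x hK hL hne hy hyy hx hxx
  obtain ⟨c, hcz, c', hcu, hcv, hcv', hcc, hcc', hzc, huc, hvc, hvc', hv⟩ := link h hzu (tz.symm h) (tu.symm h)
  -- `a` commutes with `v`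
  have h1 : a * c = c * a := (cp_RZ h hza hcz (z_mem_RZ ha h)).symm
  have h2 : a * c' = c' * a := by
    obtain ⟨k, hk, l, hl, rfl⟩ := (mem_RZ hK hL h hne).1 hcu
    have k1 := comp_eq h hK hL hne av hyy hk hl hvc'
    have hvc'' : v * (l * k) ∈ CX Om u := by rwa [← hK.comm hL h hne hk hl]
    have l1 := comp_eq h hL hK hne.symm av' hxx hl hk hvc''
    have k2 := conj_comp h hK hq hqq hy hyy (Ne.symm hqy) k1 hau
    have l2 := conj_comp h hL hr hrr hx hxx (Ne.symm hrx) l1 hau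
    have h3 : a * (k * l) * a⁻¹ = k * l := by
      calc a * (k * l) * a⁻¹ = (a * k * a⁻¹) * (a * l * a⁻¹) := by group
        _ = u * k * (u * l) := by rw [k2, l2]
        _ = u * (k * u) * l := by group
        _ = (u * u) * (k * l) := by rw [hK.comm_z h hk]; group
        _ = k * l := by rw [huu, one_mul]
    rwa [mul_inv_eq_iff_eq_mul] at h3
  have hav : a * v = v * a := by rw [hv, ← mul_assoc, h1, mul_assoc, h2, mul_assoc]
  -- the quarter turn
  obtain ⟨V, hV⟩ := tz.inT
  obtain ⟨m, hm, hmm⟩ := (tz.symm h).exists_as h hV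
  have hcx := tt_II_cx h hzu (tz.symm h) (tu.symm h)
  have hmu : As V u m := hm.of_mul (tz.inZ.z2 h) fun k hk => mem_CX.1 hcx V hV k hk
  have hmz : m * z = z * m := hm.comm.symm
  obtain ⟨g, hg⟩ : ∃ g, g = a * m * a⁻¹ * m⁻¹ := ⟨_, rfl⟩
  have hgN : g ∈ N := by
    have h3 := mul_mem haN (nrm m hmz a⁻¹ (inv_mem haN))
    have e : a * (m * a⁻¹ * m⁻¹) = g := by rw [hg]; group
    rwa [e] at h3
  have hgv : g ∈ RZ Om v := by
    rw [hg]
    exact mul_mem (RZ_conj_comm h hav (hV.le_RZ hm.1)) (inv_mem (hV.le_RZ hm.1))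
  have hgz : g ∈ CX Om z := by
    have h3 : a ∈ CX Om z := cp_cx h ha hza
    have h4 := mul_mem h3 (CX_conj_comm h hmz (inv_mem h3))
    have e : a * (m * a⁻¹ * m⁻¹) = g := by rw [hg]; group
    rwa [e] at h4
  have hvz : v ∉ CX Om z := (tz.symm h).not_mem_CX h
  have hvu : v ∉ CX Om u := (tu.symm h).not_mem_CX h
  rcases cap_cases h tz hgv hgz with h3 | h3
  · -- `a` commutes with `m`
    rw [hg] at h3
    have h4 : a * m = m * a := by
      calc a * m = (a * m * a⁻¹ * m⁻¹) * (m * a) := by group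
        _ = m * a := by rw [h3, one_mul]
    have r1 := (tu.symm h).rot h hV hK hmu av
    have h5 := hq.conj m
    have e : m * a * m⁻¹ = a := by rw [← h4, mul_inv_cancel_right]
    rw [r1.1, e] at h5
    have h6 := hK.as_unique h hq h5
    have h7 := r1.2.2 q hq.1 hqq (Ne.symm hqy)
    refine hK.no_center h hyy ?_
    rcases h6 with h6 | h6 <;> rcases h7 with h7 | h7 <;> rw [h6] at h7
    · left; exact right_eq_mul.1 h7
    · right
      rw [← mul_assoc] at h7
      have h8 := right_eq_mul.1 h7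
      rw [← huu] at h8
      exact mul_left_cancel h8
    · right; exact (mul_right_cancel h7).symm
    · left; exact right_eq_mul.1 (mul_left_cancel h7)
  · have h4 : c⁻¹ * g ∈ CX Om v := by
      have h5 := mul_mem (inv_mem hzc) h3
      have e : (z * c)⁻¹ * (z * g) = c⁻¹ * g := by group
      rwa [e] at h5
    rcases RZ_CX h tz.inT (mul_mem (inv_mem hcv) hgv) h4 with h5 | h5
    · -- `g = c`
      rw [inv_mul_eq_one] at h5
      rw [← h5] at hgz
      have h6 := mul_mem hvc (inv_mem hgz)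
      rw [mul_inv_cancel_right] at h6
      exact hvz h6
    · -- `g = c v = c'`
      have h6 : g = c' := by
        rw [inv_mul_eq_iff_eq_mul] at h5
        rw [h5, hv, ← mul_assoc, hcc, one_mul]
      rw [h6] at hgN
      have h7 : c' ∈ CX Om u := by
        rcases inf c' hgN hcu with h8 | h8
        · rw [h8]; exact one_mem _
        · rw [h8]; exact z_mem_CX h
      have h8 := mul_mem hvc' (inv_mem h7)
      rw [mul_inv_cancel_right] at h8
      exact hvu h8

/-- in a finite 2-group every noncentral element commutes with some other conjugate -/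
theorem exists_comm_conj {N : Subgroup G} (hN : IsPGroup 2 N) (huN : u ∈ N) (haN : a ∈ N) (hne : a * u ≠ u * a) :
    ∃ g ∈ N, g * u * g⁻¹ ≠ u ∧ g * u * g⁻¹ * u = u * (g * u * g⁻¹) := by
  haveI : Fact (Nat.Prime 2) := ⟨Nat.prime_two⟩
  haveI : Group.IsNilpotent N := hN.isNilpotent
  have hnc := Group.normalizerCondition_of_isNilpotent (G := N)
  obtain ⟨C, hC⟩ : ∃ C : Subgroup N, C = centralizer {(⟨u, huN⟩ : N)} := ⟨_, rfl⟩
  have hlt : C < ⊤ := by
    rw [lt_top_iff_ne_top]
    intro h1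
    have h2 : (⟨a, haN⟩ : N) ∈ C := by rw [h1]; exact mem_top _
    rw [hC, mem_centralizer_singleton_iff] at h2
    exact hne (congrArg Subtype.val h2)
  obtain ⟨g, hg, hgC⟩ := SetLike.exists_of_lt (hnc C hlt)
  refine ⟨g, g.2, fun h1 => hgC ?_, ?_⟩
  · rw [hC, mem_centralizer_singleton_iff]
    rw [mul_inv_eq_iff_eq_mul] at h1
    exact Subtype.ext h1
  · have h1 : (⟨u, huN⟩ : N) ∈ C := by rw [hC, mem_centralizer_singleton_iff]
    have h2 := (mem_normalizer_iff.1 hg _).1 h1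
    rw [hC, mem_centralizer_singleton_iff] at h2
    exact congrArg Subtype.val h2

/-- **`|a0(z)| ≤ 1`** (step (1)) -/
theorem a0_unique (h : WM Om) (nil : ∀ u, InZ Om u → CP Om z u → InO (centralizer {z}) u)
    (no3 : ∀ a b, CP Om z a → CP Om z b → ¬ CP Om a b) (yf : ∀ u, InZ Om u → CP Om z u → YF Om z u)
    (hz : InZ Om z) (hu : InZ Om u) (ha : InZ Om a) (hzu : CP Om z u) (hza : CP Om z a) : u = a := by
  by_contra hne
  obtain ⟨N, hNz', hNz, hN, huN, haN⟩ := (nil u hu hzu).two (nil a ha hza)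
  by_cases hc : a * u = u * a
  · exact no_comm h hN hNz hz hu ha hzu hza hne (no3 u a hzu hza) huN haN (yf u hu hzu) hc
  · obtain ⟨g, hg, h1, h2⟩ := exists_comm_conj hN huN haN hc
    have hgz : g * z = z * g := mem_centralizer_singleton_iff.1 (hNz' hg)
    have h3 : CP Om z (g * u * g⁻¹) := by
      have h4 := cp_conj h hzu g
      rwa [hgz, mul_inv_cancel_right] at h4
    have h4 : InZ Om (g * u * g⁻¹) := hu.conj h g
    exact no_comm h hN hNz hz hu h4 hzu h3 (Ne.symm h1) (no3 _ _ hzu h3) huN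
      (mul_mem (mul_mem hg huN) (inv_mem hg)) (yf u hu hzu) h2

end Cfsg.Agent.Cit.Nil.RTwoM
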