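import Cfsg.Agent.Cit.Nil.RTwoM.Act

/-!
# S1309, `r = 2`, `AN(s)`, `m = 2`: the only fact on the world `r' = 4` which is used

* `YF Om z u` : `z`, `u` a C-pair: the common TI partners of `z` and `u` induce all pairs of axes on the two members
  over `u`.
-/

set_option autoImplicit false

namespace Cfsg.Agent.Cit.Nil.RTwoM

open Subgroup Cfsg Cfsg.Agent.Cit

/-- the common TI partners of `z` and `u` induce all pairs of axes on the two members over `u` -/
def YF {G : Type*} [Group G] (Om : Set (Subgroup G)) (z u : G) : Prop :=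
  ∀ K K' : Subgroup G, ∀ y y' : G, Mem Om u K → Mem Om u K' → K ≠ K' → y ∈ K → y * y = u → y' ∈ K' → y' * y' = u →
    ∃ v, TI Om z v ∧ TI Om u v ∧ As K v y ∧ As K' v y'

end Cfsg.Agent.Cit.Nil.RTwoM
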