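import Cfsg.Agent.Cit.Nil.RTwoM.AN.Big
import Cfsg.Agent.Cit.Nil.RTwoM.ANt.Main
import Cfsg.Agent.Cit.Nil.RTwoM.TwoUniq
import Cfsg.Agent.Cit.Nil.ANTwo.Inst

/-!
# S1309 (6b), (C3), `r = 2`, NIL: `AN(s)` for `s ∈ T_S`, `s ≠ 1`, any `m ≥ 2`

* `YFr Om` : for `m = 2`, a frame (`ANTwo.Fr`) gives `YF` for the C-pair of the Sylow subgroup (input, helper197);
* `YF.conj`, `YF.all` : `YF` for all C-pairs; `WM.no3` : for `m = 2` there is no clique of three points;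
* **`ANT.of_two`** : `m = 2`; **`ANT.of_ge`** : `m = 2` or `m ≥ 3`.
-/

set_option autoImplicit false
set_option linter.style.haveILetI false
set_option linter.unusedSectionVars false

namespace Cfsg.Agent.Cit.Nil.RTwoM

open Subgroup Cfsg Cfsg.Agent.Cit
open RG (WR CP Ov InO RR)
open RI (CS)
open Cfsg.Agent.StdEven.Syl Cfsg.Agent.OddOrderLocal.NilParts
open Cfsg.Agent.Cit.Nil.AN (Ce Cm OmZ TS T0)
open Cfsg.Agent.Cit.Nil.CompR (GW)
open Cfsg.Agent.Cit.Nil.ROne (FSimp)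

variable {G : Type*} [Group G] {Om : Set (Subgroup G)} {K L M X : Subgroup G} {a b s t u v x y z g : G}

/-- the input: a frame gives `YF` for the C-pair of `S` -/
def YFr (Om : Set (Subgroup G)) : Prop :=
  ∀ (S : Sylow 2 G) (KK : Set G), ANTwo.Fr (RG.ZZ Om) (RR Om) (S : Subgroup G) KK →
    ∀ z u, z ∈ CS Om (S : Subgroup G) → u ∈ CS Om (S : Subgroup G) → z ≠ u → YF Om z u

theorem As.cj' (hy : As K t y) (g : G) : As (cj g K) (g * t * g⁻¹) (g * y * g⁻¹) := by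
  refine ⟨conj_mem_cj hy.1, fun k hk => ?_⟩
  have h1 := hy.2 _ (mem_cj.1 hk)
  calc g * t * g⁻¹ * k * (g * t * g⁻¹)⁻¹ = g * (t * (g⁻¹ * k * g) * t⁻¹) * g⁻¹ := by group
    _ = g * (y * (g⁻¹ * k * g) * y⁻¹) * g⁻¹ := by rw [h1]
    _ = _ := by group

section Fin

variable [Finite G]

theorem YF.conj (hy : YF Om z u) (h : WM Om) (g : G) : YF Om (g * z * g⁻¹) (g * u * g⁻¹) := by
  intro K K' y y' hK hK' hne hyK hyy hyK' hyy'
  have e : ∀ x : G, g⁻¹ * (g * x * g⁻¹) * g⁻¹⁻¹ = x := fun x => by group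
  have e' : ∀ x : G, g * (g⁻¹ * x * g⁻¹⁻¹) * g⁻¹ = x := fun x => by group
  have e2 : ∀ x : G, x * x = g * u * g⁻¹ → (g⁻¹ * x * g⁻¹⁻¹) * (g⁻¹ * x * g⁻¹⁻¹) = u := by
    intro x hx
    calc (g⁻¹ * x * g⁻¹⁻¹) * (g⁻¹ * x * g⁻¹⁻¹) = g⁻¹ * (x * x) * g := by group
      _ = u := by rw [hx]; group
  have m1 := hK.cj h g⁻¹
  have m2 := hK'.cj h g⁻¹
  rw [e] at m1 m2
  obtain ⟨v, t1, t2, a1, a2⟩ := hy _ _ _ _ m1 m2 (fun h1 => hne (by rw [← cj_cj_inv g K, h1, cj_cj_inv]))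
    (conj_mem_cj hyK) (e2 _ hyy) (conj_mem_cj hyK') (e2 _ hyy')
  refine ⟨g * v * g⁻¹, t1.conj h g, t2.conj h g, ?_, ?_⟩
  · have h1 := a1.cj' g
    rwa [cj_cj_inv, e'] at h1
  · have h1 := a2.cj' g
    rwa [cj_cj_inv, e'] at h1

theorem exists_cj_CS (h : WM Om) (S S' : Sylow 2 G) (hz : z ∈ CS Om (S : Subgroup G))
    (hu : u ∈ CS Om (S : Subgroup G)) : ∃ g, g * z * g⁻¹ ∈ CS Om (S' : Subgroup G) ∧
      g * u * g⁻¹ ∈ CS Om (S' : Subgroup G) := by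
  haveI : Fact (Nat.Prime 2) := ⟨Nat.prime_two⟩
  obtain ⟨g, -, hg⟩ := (isSyl_top_of_sylow S').exists_conj S.isPGroup' le_top
  have key : ∀ z, z ∈ CS Om (S : Subgroup G) → g * z * g⁻¹ ∈ CS Om (S' : Subgroup G) := by
    rintro z ⟨K, hK, hKS⟩
    refine ⟨cj g K, Mem.cj hK h g, ?_⟩
    intro x hx
    have h1 := hg _ (hKS (mem_cj.1 hx))
    have e : g * (g⁻¹ * x * g) * g⁻¹ = x := by group
    rwa [e] at h1
  exact ⟨g, key z hz, key u hu⟩

/-- `YF` for one Sylow subgroup gives `YF` for all C-pairs -/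
theorem YF.all (h : WM Om) (S : Sylow 2 G)
    (hS : ∀ z u, z ∈ CS Om (S : Subgroup G) → u ∈ CS Om (S : Subgroup G) → z ≠ u → YF Om z u)
    (hz : InZ Om z) (hu : InZ Om u) (hc : CP Om z u) : YF Om z u := by
  obtain ⟨S', h1, h2⟩ := exists_sylow_of_cp h hz hu hc
  obtain ⟨g, h3, h4⟩ := exists_cj_CS h S' S h1 h2
  have h5 := (hS _ _ h3 h4 (fun h6 => hc.1 (by simpa using h6))).conj h g⁻¹
  have e : ∀ x : G, g⁻¹ * (g * x * g⁻¹) * g⁻¹⁻¹ = x := fun x => by group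
  rwa [e, e] at h5

/-- `m = 2`: no clique of three points -/
theorem WM.no3 (h : WM Om) (two : ∀ S : Sylow 2 G, (CS Om (S : Subgroup G)).ncard = 2) (hz : InZ Om z)
    (ha : InZ Om a) (hb : InZ Om b) (h1 : CP Om z a) (h2 : CP Om z b) : ¬ CP Om a b := by
  intro h3
  obtain ⟨S, hzS, haS⟩ := exists_sylow_of_cp h hz ha h1
  have hCS : CS Om (S : Subgroup G) = {z, a} := by
    symm
    refine Set.eq_of_subset_of_ncard_le ?_ ?_ (Set.toFinite _)
    · rintro x (rfl | rfl)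
      · exact hzS
      · exact haS
    · rw [two S, Set.ncard_pair h1.1]
  have hbS : b ∈ CS Om (S : Subgroup G) := mem_CS_of_clique h S hb (by
    intro w hw
    right
    rw [hCS] at hw
    rcases hw with rfl | rfl
    · exact h2
    · exact h3)
  rw [hCS] at hbS
  rcases hbS with h4 | h4
  · exact h2.1 h4.symm
  · exact h3.1 (Eq.symm h4)

/-- `a0_unique` (helper735) with `no3` for points of `Z` -/
theorem a0_unique' (h : WM Om) (nil : ∀ u, InZ Om u → CP Om z u → InO (centralizer {z}) u)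
    (no3 : ∀ a b, InZ Om a → InZ Om b → CP Om z a → CP Om z b → ¬ CP Om a b)
    (yf : ∀ u, InZ Om u → CP Om z u → YF Om z u)
    (hz : InZ Om z) (hu : InZ Om u) (ha : InZ Om a) (hzu : CP Om z u) (hza : CP Om z a) : u = a := by
  by_contra hne
  obtain ⟨N, hNz', hNz, hN, huN, haN⟩ := (nil u hu hzu).two (nil a ha hza)
  by_cases hc : a * u = u * a
  · exact no_comm h hN hNz hz hu ha hzu hza hne (no3 u a hu ha hzu hza) huN haN (yf u hu hzu) hc
  · obtain ⟨g, hg, h1, h2⟩ := exists_comm_conj hN huN haN hc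
    have hgz : g * z = z * g := mem_centralizer_singleton_iff.1 (hNz' hg)
    have h3 : CP Om z (g * u * g⁻¹) := by
      have h4 := cp_conj h hzu g
      rwa [hgz, mul_inv_cancel_right] at h4
    have h4 : InZ Om (g * u * g⁻¹) := hu.conj h g
    exact no_comm h hN hNz hz hu h4 hzu h3 (Ne.symm h1) (no3 _ _ hu h4 hzu h3) huN
      (mul_mem (mul_mem hg huN) (inv_mem hg)) (yf u hu hzu) h2

/-- **`AN(s)`, `m = 2`** -/
theorem ANT.of_two (h : WM Om) (cls : OneCls Om) (c3 : C3E Om) (hn : NilG Om) (tp : CompR.TP (RG.ZZ Om) (RR Om))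
    (two : ∀ S : Sylow 2 G, (CS Om (S : Subgroup G)).ncard = 2) (f : FSimp X) (hev : 2 ∣ Nat.card X)
    (gold : Cit.ROne.Gold X) (hB : CloEnd.Bend X) (yfr : YFr Om) : ANT Om := by
  intro S s hs hs1 K hK hsK
  by_contra hno
  have hS := isSyl_top_of_sylow S
  have w := ANTwo.XW.of_gw h.gw
  have n : ANTwo.NW (RG.ZZ Om) (RR Om) :=
    { gw := h.gw
      nil := fun z hz u hu hc => hn z hz u hu ((CompR.cp_iff h.gw hz).2 hc) }
  have h1 : Ce s (RR Om (zz K)) := (ANTwo.ce_iff h).2 (ANTwo.cent_all h S hs ⟨hK, rfl⟩ hsK)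
  have h2 : zz K ∉ oP 2 (centralizer {s}) := fun h3 =>
    hno ⟨oP 2 (centralizer {s}), oP_le 2 _, le_normalizer_oP 2 _, isPGroup_oP 2 _, h3⟩
  obtain ⟨a, b, hab, hCS⟩ := Set.ncard_eq_two.1 (two S)
  have ha : a ∈ CS Om (S : Subgroup G) := by rw [hCS]; exact Or.inl rfl
  have hb : b ∈ CS Om (S : Subgroup G) := by rw [hCS]; exact Or.inr rfl
  obtain ⟨KK, fr⟩ := n.exists_fr hS (fun t ht ht1 => tp S t ht ht1) (s := s) (z0 := zz K)
    (by rwa [ANTwo.ts_eq h S]) hs1 ⟨⟨K, hK, rfl⟩, h1⟩ h2 (a := a) (b := b)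
    (by rwa [ANTwo.omZ_eq h S]) (by rwa [ANTwo.omZ_eq h S]) hab
  have yf : ∀ z u, InZ Om z → InZ Om u → CP Om z u → YF Om z u := fun z u hz hu hc =>
    YF.all h S (yfr S KK fr) hz hu hc
  refine h.false_of_uniq cls c3 two ?_ (z := zz K) ⟨K, hK, rfl⟩ f hev gold hB
  intro z a b hz ha hb hza hzb
  refine a0_unique' h ?_ ?_ (fun u hu hc => yf z u hz hu hc) hz ha hb hza hzb
  · intro u hu hc
    refine ⟨oP 2 (centralizer {z}), oP_le 2 _, le_normalizer_oP 2 _, isPGroup_oP 2 _, ?_⟩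
    exact hn z hz u hu ((CompR.cp_iff_wr h.wr).2 hc)
  · intro a b ha hb h1 h2
    exact h.no3 two hz ha hb h1 h2

/-- no strongly closed commutative subgroup -/
theorem WM.noCl (h : WM Om) (cls : OneCls Om) (c3 : C3E Om) (hz : InZ Om z) (f : FSimp X) (hev : 2 ∣ Nat.card X)
    (gold : Cit.ROne.Gold X) (hB : CloEnd.Bend X) (S : Sylow 2 G) : ANTwo.NoCl (RG.ZZ Om) (S : Subgroup G) := by
  intro A hA hAZ hAc hcl
  have hX : closure (RG.ZZ Om) ≤ X := (closure_le _).2 fun z hz => h.zmemX f hev hz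
  exact h.false_of_closed cls c3 hz f hev gold hB S hA (hAZ.trans hX) hAc hcl

/-- **`AN(s)`, any `m ≥ 2`** -/
theorem ANT.of_ge (h : WM Om) (cls : OneCls Om) (c3 : C3E Om) (hn : NilG Om) (tp : CompR.TP (RG.ZZ Om) (RR Om))
    (ge : ∀ S : Sylow 2 G, 2 ≤ (CS Om (S : Subgroup G)).ncard) (f : FSimp X) (hev : 2 ∣ Nat.card X)
    (gold : Cit.ROne.Gold X) (hB : CloEnd.Bend X)
    (yfr : (∀ S : Sylow 2 G, (CS Om (S : Subgroup G)).ncard = 2) → YFr Om) : ANT Om := by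
  by_cases h2 : ∀ S : Sylow 2 G, (CS Om (S : Subgroup G)).ncard = 2
  · exact ANT.of_two h cls c3 hn tp h2 f hev gold hB (yfr h2)
  · push Not at h2
    obtain ⟨S0, hS0⟩ := h2
    obtain ⟨z, hz⟩ : (CS Om (S0 : Subgroup G)).Nonempty := by
      rw [← Set.ncard_pos (Set.toFinite _)]
      have := ge S0
      omega
    refine ANTwo.ant_of h hn tp (fun S => h.noCl cls c3 (CS.inZ hz) f hev gold hB S) fun S => ?_
    rw [ncard_CS_eq h S0 S]
    have := ge S0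
    omega

end Fin

end Cfsg.Agent.Cit.Nil.RTwoM
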