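import Cfsg.Agent.Cit.Nil.RTwoM.AN.QuoF
import Cfsg.Agent.Cit.Nil.RFour.Asm
import Cfsg.Agent.Cit.Nil.RFour.Exc
import Cfsg.Agent.Cit.Nil.RTwoM.LZero

/-!
# `AN(s)`, `r = 2`, `m = 2`: the world `Y = C(e)/C(⟨Z(e)⟩)`, `r' = 4`

`QH Om e` : the hypotheses (`e = z u`, the class of `C(e)` is `ONE`, not nil).

* `QH.w4` : the images of the members of `C(e)` form a world `W4`;
* `QH.oneCls`, `QH.c3r`; `QH.exists_ti` : in `Y` there are two type I partners which do not commute;
* **`QH.exists_nc`** : in `G` : `a, t, t' ∈ Z(e)`, `t, t'` of type I with `a` and `a e`, `t t' ≠ t' t`.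
-/

set_option autoImplicit false
set_option linter.style.haveILetI false
set_option linter.unusedSectionVars false

namespace Cfsg.Agent.Cit.Nil.RTwoM.Quo

open Subgroup Cfsg Cit IndDefs

open RG (CP)

universe u

section

variable {G : Type u} [Group G] {Om : Set (Subgroup G)} {e g : G} {K L : Subgroup G}

/-- the members in `C(e)` -/
def Me (Om : Set (Subgroup G)) (e : G) : Set (Subgroup G) := {K | K ∈ Om ∧ K ≤ centralizer {e}}

/-- `g` centralises the members in `C(e)` -/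
def AllC (Om : Set (Subgroup G)) (e g : G) : Prop := ∀ K ∈ Me Om e, ∀ k ∈ K, g * k = k * g

theorem mem_Me : K ∈ Me Om e ↔ K ∈ Om ∧ ∀ k ∈ K, e * k = k * e := by
  constructor
  · intro h
    exact ⟨h.1, fun k hk => (mem_centralizer_singleton_iff.1 (h.2 hk)).symm⟩
  · intro h
    exact ⟨h.1, fun k hk => mem_centralizer_singleton_iff.2 (h.2 k hk).symm⟩

/-- the hypotheses -/
structure QH [Finite G] (Om : Set (Subgroup G)) (e : G) : Prop where
  wm : WM Om
  core : pPrimeCore 2 ↥(centralizer ({e} : Set G)) = ⊥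
  conn : ∀ K ∈ restr Om (centralizer {e}), ∀ L ∈ restr Om (centralizer {e}), L ∈ comp (restr Om (centralizer {e})) K
  nn : ∃ K ∈ restr Om (centralizer {e}), ¬ NIL K
  one : ∀ K ∈ Me Om e, ∀ L ∈ Me Om e, Cm K L → AllC Om e (zz K * zz L)
  trans : ∀ K ∈ Me Om e, ∀ L ∈ Me Om e, ∃ g, g * e = e * g ∧ cj g K = L
  rot : ∀ K ∈ Me Om e, ∀ y ∈ K, y * y = zz K → ∃ g, g * e = e * g ∧ cj g K = K ∧ g * y * g⁻¹ ≠ y ∧ g * y * g⁻¹ ≠ y⁻¹
  cp : ∀ K ∈ Me Om e, InZ Om (zz K * e) ∧ CP Om (zz K) (zz K * e)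
  fib : ∀ K ∈ Me Om e, ∀ L ∈ Me Om e, AllC Om e (zz K * zz L) → zz L = zz K ∨ zz L = zz K * e

/-- the quotient map -/
structure QF (Om : Set (Subgroup G)) (e : G) {Y : Type u} [Group Y] (f : ↥(centralizer ({e} : Set G)) →* Y) : Prop where
  surj : Function.Surjective f
  ker : ∀ g, f g = 1 ↔ AllC Om e g

end

namespace QH

variable {G : Type u} [Group G] [Finite G] {Om : Set (Subgroup G)} {e g : G} {K L : Subgroup G}
  {Y : Type u} [Group Y] {f : ↥(centralizer ({e} : Set G)) →* Y}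

theorem sub_mem (h : K ∈ Me Om e) : K.subgroupOf (centralizer {e}) ∈ restr Om (centralizer {e}) :=
  subgroupOf_mem_restr h.1 h.2

theorem map_sub (h : K ∈ Me Om e) : (K.subgroupOf (centralizer {e})).map (centralizer {e}).subtype = K :=
  map_subgroupOf_eq_of_le h.2

theorem exists_me {A : Subgroup ↥(centralizer ({e} : Set G))} (h : A ∈ restr Om (centralizer {e})) :
    ∃ K ∈ Me Om e, A = K.subgroupOf (centralizer {e}) := by
  refine ⟨A.map (centralizer {e}).subtype, ⟨mem_restr.1 h, map_subtype_le A⟩, ?_⟩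
  rw [subgroupOf, comap_map_eq_self_of_injective (centralizer {e}).subtype_injective]

theorem zz_sub (q : QH Om e) (h : K ∈ Me Om e) :
    ((zz (K.subgroupOf (centralizer {e})) : ↥(centralizer ({e} : Set G))) : G) = zz K := by
  rw [Cit.zz_map q.wm.hyp (sub_mem h), map_sub h]

theorem qt (q : QH Om e) (qf : QF Om e f) : QT (restr Om (centralizer {e})) f where
  t0 := ⟨q.wm.hyp.restr _, fun K hK => by
    rw [← q.wm.card _ (mem_restr.1 hK), card_map_of_injective (centralizer {e}).subtype_injective], q.core⟩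
  conn := q.conn
  nn := q.nn
  surj := qf.surj
  ker g := by
    rw [qf.ker]
    constructor
    · intro h A hA k hk
      obtain ⟨K, hK, rfl⟩ := exists_me hA
      exact Subtype.ext (h K hK k hk)
    · intro h K hK k hk
      exact congrArg Subtype.val (h _ (sub_mem hK) ⟨k, hK.2 hk⟩ hk)

theorem exists_f (q : QH Om e) : ∃ (Y : Type u) (_ : Group Y) (_ : Finite Y)
    (f : ↥(centralizer ({e} : Set G)) →* Y), QF Om e f := by
  obtain ⟨N, hN⟩ : ∃ N : Subgroup ↥(centralizer ({e} : Set G)),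
      N = centralizer {k | ∃ A ∈ restr Om (centralizer {e}), k ∈ A} := ⟨_, rfl⟩
  have mN : ∀ g, g ∈ N ↔ ∀ A ∈ restr Om (centralizer {e}), ∀ k ∈ A, g * k = k * g := by
    intro g
    rw [hN, mem_centralizer_iff]
    constructor
    · intro h A hA k hk
      exact (h k ⟨A, hA, hk⟩).symm
    · rintro h k ⟨A, hA, hk⟩
      exact (h A hA k hk).symm
  have hhyp := q.wm.hyp.restr (centralizer {e})
  haveI hNn : N.Normal := by
    refine ⟨fun n hn g => ?_⟩
    rw [mN] at hn ⊢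
    intro A hA k hk
    have h1 := hn _ (hhyp.conj A hA g⁻¹) (g⁻¹ * k * g) (by rw [mem_cj]; simpa [mul_assoc] using hk)
    calc g * n * g⁻¹ * k = g * (n * (g⁻¹ * k * g)) * g⁻¹ := by group
      _ = g * ((g⁻¹ * k * g) * n) * g⁻¹ := by rw [h1]
      _ = k * (g * n * g⁻¹) := by group
  refine ⟨↥(centralizer ({e} : Set G)) ⧸ N, inferInstance, inferInstance, QuotientGroup.mk' N,
    QuotientGroup.mk'_surjective _, fun g => ?_⟩
  rw [QuotientGroup.mk'_apply, QuotientGroup.eq_one_iff, mN]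
  constructor
  · intro h K hK k hk
    exact congrArg Subtype.val (h _ (sub_mem hK) ⟨k, hK.2 hk⟩ hk)
  · intro h A hA k hk
    obtain ⟨K, hK, rfl⟩ := exists_me hA
    exact Subtype.ext (h K hK k hk)

/-- the member of `Y` -/
def im (f : ↥(centralizer ({e} : Set G)) →* Y) (K : Subgroup G) : Subgroup Y := (K.subgroupOf (centralizer {e})).map f

theorem im_mem (h : K ∈ Me Om e) : im f K ∈ img f (restr Om (centralizer {e})) := ⟨_, sub_mem h, rfl⟩

theorem exists_im {A : Subgroup Y} (h : A ∈ img f (restr Om (centralizer {e}))) : ∃ K ∈ Me Om e, A = im f K := by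
  obtain ⟨B, hB, rfl⟩ := h
  obtain ⟨K, hK, rfl⟩ := exists_me hB
  exact ⟨K, hK, rfl⟩

section

variable (q : QH Om e) (hev : ∀ (G : Type u) [Group G] [Finite G], Comp.EvQ G) (qf : QF Om e f)

include q hev qf

theorem zz_im (h : K ∈ Me Om e) (hz : zz K ∈ centralizer ({e} : Set G)) : zz (im f K) = f ⟨zz K, hz⟩ := by
  rw [im, ((q.qt qf).qm hev).zz_map (sub_mem h)]
  congr 1
  exact Subtype.ext (q.zz_sub h)

theorem im_inj (hK : K ∈ Me Om e) (hL : L ∈ Me Om e) (h : im f K = im f L) : K = L := by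
  have h1 := ((q.qt qf).qm hev).map_inj (sub_mem hK) (sub_mem hL) (by
    show im f K ≤ im f L
    rw [h])
  rw [← map_sub hK, h1, map_sub hL]

theorem zz_im_eq_iff (hK : K ∈ Me Om e) (hL : L ∈ Me Om e) : zz (im f K) = zz (im f L) ↔ AllC Om e (zz K * zz L) := by
  have h1 := hK.2 (q.wm.hyp.zz_mem hK.1)
  have h2 := hL.2 (q.wm.hyp.zz_mem hL.1)
  rw [q.zz_im hev qf hK h1, q.zz_im hev qf hL h2]
  have h3 : (⟨zz L, h2⟩ : ↥(centralizer ({e} : Set G)))⁻¹ = ⟨zz L, h2⟩ := Subtype.ext (q.wm.hyp.zz_inv hL.1)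
  have h4 := qf.ker (⟨zz K, h1⟩ * ⟨zz L, h2⟩)
  rw [map_mul] at h4
  have h5 : (f ⟨zz L, h2⟩)⁻¹ = f ⟨zz L, h2⟩ := by rw [← map_inv, h3]
  rw [← h4.trans (show AllC Om e _ ↔ AllC Om e (zz K * zz L) from Iff.rfl), mul_eq_one_iff_eq_inv, h5]

/-- `Y` is a world with four members over each point -/
theorem w4 : RFour.W4 (img f (restr Om (centralizer {e}))) := by
  have qm := (q.qt qf).qm hev
  refine ⟨qm.hyp_img, ?_, ?_, ?_⟩
  · rintro _ ⟨K, hK, rfl⟩
    exact qm.card_map hK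
  · intro A hA
    obtain ⟨K, hK, rfl⟩ := exists_im hA
    obtain ⟨hzu, hcp⟩ := q.cp K hK
    have mK : Mem Om (zz K) K := ⟨hK.1, rfl⟩
    obtain ⟨K', mK', hne, hall⟩ := mK.other q.wm
    obtain ⟨L, mL⟩ := hzu
    obtain ⟨L', mL', hne', hall'⟩ := mL.other q.wm
    have hzz := q.wm.hyp.zz_mul hK.1
    have eze : ∀ g : G, zz K * g = g * zz K → (zz K * e) * g = g * (zz K * e) → e * g = g * e := by
      intro g h1 h2
      calc e * g = (zz K * zz K) * e * g := by rw [hzz, one_mul]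
        _ = zz K * ((zz K * e) * g) := by group
        _ = (zz K * g) * (zz K * e) := by rw [h2]; group
        _ = g * ((zz K * zz K) * e) := by rw [h1]; group
        _ = g * e := by rw [hzz, one_mul]
    have h1 : ∀ M, Mem Om (zz K) M → M ∈ Me Om e := by
      intro M hM
      refine mem_Me.2 ⟨hM.1, fun m hm => eze m (hM.comm_z q.wm hm).symm ?_⟩
      exact (hcp.2 M hM L mL m hm _ (mL.zmem q.wm)).symm
    have h2 : ∀ M, Mem Om (zz K * e) M → M ∈ Me Om e := by
      intro M hM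
      refine mem_Me.2 ⟨hM.1, fun m hm => eze m ?_ (hM.comm_z q.wm hm).symm⟩
      exact hcp.2 K mK M hM _ (mK.zmem q.wm) m hm
    have hKL : ∀ M N, Mem Om (zz K) M → Mem Om (zz K * e) N → M ≠ N := by
      rintro M _ hM hN rfl
      exact hcp.1 (hM.2.symm.trans hN.2)
    -- the four members
    have hset : {B | B ∈ img f (restr Om (centralizer {e})) ∧ zz B = zz (im f K)} =
        im f '' {K, K', L, L'} := by
      ext B
      constructor
      · rintro ⟨hB, hBz⟩
        obtain ⟨M, hM, rfl⟩ := exists_im hB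
        refine ⟨M, ?_, rfl⟩
        rw [q.zz_im_eq_iff hev qf hM hK] at hBz
        have hc : AllC Om e (zz K * zz M) := by
          have hzc : zz K * zz M = zz M * zz K := by
            have h3 := hBz K hK _ (q.wm.hyp.zz_mem hK.1)
            have h4 : zz M * zz K * zz K = zz M := by rw [mul_assoc, hzz, mul_one]
            calc zz K * zz M = zz K * (zz M * zz K * zz K) := by rw [h4]
              _ = (zz K * (zz M * zz K)) * zz K := by group
              _ = ((zz M * zz K) * zz K) * zz K := by rw [h3]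
              _ = zz M * zz K := by rw [h4]
          rw [hzc]; exact hBz
        rcases q.fib K hK M hM hc with h3 | h3
        · rcases hall M ⟨hM.1, h3⟩ with h4 | h4
          · left; exact h4
          · right; left; exact h4
        · rcases hall' M ⟨hM.1, h3⟩ with h4 | h4
          · right; right; left; exact h4
          · right; right; right; exact h4
      · rintro ⟨M, hM, rfl⟩
        have hMm : M ∈ Me Om e ∧ AllC Om e (zz M * zz K) := by
          have h3 : ∀ M, Mem Om (zz K) M → AllC Om e (zz M * zz K) := by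
            intro M hM N hN k hk
            rw [hM.2, hzz, one_mul, mul_one]
          have h4 : ∀ M, Mem Om (zz K * e) M → AllC Om e (zz M * zz K) := by
            intro M hM N hN k hk
            have h5 : e * zz K = zz K * e := (mem_Me.1 hK).2 _ (q.wm.hyp.zz_mem hK.1)
            have h6 : zz M * zz K = e := by
              rw [hM.2, mul_assoc, h5, ← mul_assoc, hzz, one_mul]
            rw [h6]
            exact (mem_Me.1 hN).2 k hk
          rcases hM with rfl | rfl | rfl | rfl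
          · exact ⟨hK, h3 _ mK⟩
          · exact ⟨h1 _ mK', h3 _ mK'⟩
          · exact ⟨h2 _ mL, h4 _ mL⟩
          · exact ⟨h2 _ mL', h4 _ mL'⟩
        exact ⟨im_mem hMm.1, (q.zz_im_eq_iff hev qf hMm.1 hK).2 hMm.2⟩
    rw [hset, Set.InjOn.ncard_image]
    · have a1 : K ∉ ({K', L, L'} : Set (Subgroup G)) := by
        rintro (h3 | h3 | h3)
        · exact hne h3
        · exact hKL _ _ mK mL h3
        · exact hKL _ _ mK mL' h3
      have a2 : K' ∉ ({L, L'} : Set (Subgroup G)) := by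
        rintro (h3 | h3)
        · exact hKL _ _ mK' mL h3
        · exact hKL _ _ mK' mL' h3
      have a3 : L ∉ ({L'} : Set (Subgroup G)) := hne'
      rw [Set.ncard_insert_of_notMem a1, Set.ncard_insert_of_notMem a2, Set.ncard_insert_of_notMem a3,
        Set.ncard_singleton]
    · have hin : ∀ M ∈ ({K, K', L, L'} : Set (Subgroup G)), M ∈ Me Om e := by
        rintro M (rfl | rfl | rfl | rfl)
        · exact hK
        · exact h1 _ mK'
        · exact h2 _ mL
        · exact h2 _ mL'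
      intro A hA B hB hAB
      exact q.im_inj hev qf (hin A hA) (hin B hB) hAB
  · intro A hA B hB hc
    obtain ⟨K, hK, rfl⟩ := exists_im hA
    obtain ⟨L, hL, rfl⟩ := exists_im hB
    rw [q.zz_im_eq_iff hev qf hK hL]
    have h1 := qm.cm_lift (sub_mem hK) hc
    refine q.one K hK L hL fun k hk l hl => ?_
    exact congrArg Subtype.val (h1 ⟨k, hK.2 hk⟩ hk ⟨l, hL.2 hl⟩ hl)

/-- the action of `C(e)` -/
theorem cj_im (c : ↥(centralizer ({e} : Set G))) (hK : K ∈ Me Om e) : cj (f c) (im f K) = im f (cj (c : G) K) := by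
  have h1 : cj (c : G) K ∈ Me Om e := by
    refine ⟨q.wm.hyp.conj K hK.1 c, ?_⟩
    rintro _ ⟨k, hk, rfl⟩
    exact mul_mem (mul_mem c.2 (hK.2 hk)) (inv_mem c.2)
  rw [im, im, ← cj_map]
  congr 1
  apply Subgroup.map_injective (centralizer {e}).subtype_injective
  rw [map_sub h1, cj_map, map_sub hK]
  rfl

theorem oneCls : RFour.OneCls (img f (restr Om (centralizer {e}))) := by
  intro A hA B hB
  obtain ⟨K, hK, rfl⟩ := exists_im hA
  obtain ⟨L, hL, rfl⟩ := exists_im hB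
  obtain ⟨g, hg, h1⟩ := q.trans K hK L hL
  refine ⟨f ⟨g, mem_centralizer_singleton_iff.2 hg⟩, ?_⟩
  rw [q.cj_im hev qf _ hK]
  show im f (cj g K) = im f L
  rw [h1]

theorem c3r : RFour.C3R (img f (restr Om (centralizer {e}))) := by
  rintro z A ⟨hA, rfl⟩ y hy hyy
  obtain ⟨K, hK, rfl⟩ := exists_im hA
  have qm := (q.qt qf).qm hev
  obtain ⟨k, hk, rfl⟩ := hy
  have hkK : (k : G) ∈ K := hk
  have hkk : (k : G) * k = zz K := by
    have h1 := hK.2 (q.wm.hyp.zz_mem hK.1)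
    rw [q.zz_im hev qf hK h1, ← map_mul] at hyy
    have h2 : f (k * k * (⟨zz K, h1⟩ : ↥(centralizer ({e} : Set G)))⁻¹) = 1 := by
      rw [map_mul, hyy, map_inv, mul_inv_cancel]
    have h3 : k * k * (⟨zz K, h1⟩ : ↥(centralizer ({e} : Set G)))⁻¹ ∈ K.subgroupOf (centralizer {e}) :=
      mul_mem (mul_mem hk hk) (inv_mem (q.wm.hyp.zz_mem hK.1 : zz K ∈ K))
    have h4 := qm.inj (sub_mem hK) h3 h2
    exact congrArg Subtype.val (mul_inv_eq_one.1 h4)
  obtain ⟨g, hg, hgK, h1, h2⟩ := q.rot K hK k hkK hkk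
  have hgk : g * k * g⁻¹ ∈ K := by
    have := conj_mem_cj (g := g) hkK
    rwa [hgK] at this
  obtain ⟨c, hc⟩ : ∃ c : ↥(centralizer ({e} : Set G)), (c : G) = g := ⟨⟨g, mem_centralizer_singleton_iff.2 hg⟩, rfl⟩
  have hin : c * k * c⁻¹ ∈ K.subgroupOf (centralizer {e}) := by
    rw [mem_subgroupOf]
    show (c : G) * k * (c : G)⁻¹ ∈ K
    rw [hc]; exact hgk
  refine ⟨f c, ?_, ?_, ?_⟩
  · rw [q.cj_im hev qf _ hK, hc, hgK]
  · intro h3
    have h4 : f (c * k * c⁻¹ * k⁻¹) = 1 := by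
      rw [map_mul, map_mul, map_mul, map_inv, map_inv, h3, mul_inv_cancel]
    have h5 := qm.inj (sub_mem hK) (mul_mem hin (inv_mem hk)) h4
    have h6 := congrArg Subtype.val (mul_inv_eq_one.1 h5)
    apply h1
    rw [← hc]
    exact h6
  · intro h3
    have h4 : f (c * k * c⁻¹ * k) = 1 := by
      rw [map_mul, map_mul, map_mul, map_inv, h3, inv_mul_cancel]
    have h5 := qm.inj (sub_mem hK) (mul_mem hin hk) h4
    have h6 := congrArg Subtype.val (mul_eq_one_iff_eq_inv.1 h5)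
    apply h2
    rw [← hc]
    exact h6

/-- two type I partners in `Y` which do not commute -/
theorem exists_ti [Finite Y] (i : RFour.LIn.{u}) : ∃ z t t', RFour.TI (img f (restr Om (centralizer {e}))) z t ∧
    RFour.TI (img f (restr Om (centralizer {e}))) z t' ∧ t * t' ≠ t' * t := by
  by_contra hcon
  push Not at hcon
  obtain ⟨X, fX, hzX, h2⟩ := (q.qt qf).fsimp hev
  have h := q.w4 hev qf
  have hc := q.oneCls hev qf
  have exc := RFour.exc h
  have hle : ∀ K ∈ img f (restr Om (centralizer {e})), K ≤ X := fun K hK =>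
    h.mem_le hc (q.c3r hev qf) fX h2 exc hK
  haveI := fX.sim
  obtain ⟨K, hK, -⟩ := q.nn
  exact h.false_of_two (K := K.map f) ⟨K, hK, rfl⟩ hc exc fX hle (fun S A h1 h2 h3 => i.gold _ S A h1 h2 h3)
    (i.bend _) (fun z t t' h1 h2 => hcon z t t' h1 h2)

/-- points of `Y` in terms of `G` -/
theorem exists_pt {z : Y} (hz : RFour.InZ (img f (restr Om (centralizer {e}))) z) : ∃ K ∈ Me Om e, z = zz (im f K) := by
  obtain ⟨A, hA, rfl⟩ := hz
  obtain ⟨K, hK, rfl⟩ := exists_im hA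
  exact ⟨K, hK, rfl⟩

/-- **exact lift of type I** -/
theorem as_of_ti [Finite Y] {L M : Subgroup G} (hL : L ∈ Me Om e) (hM : M ∈ Me Om e) {y : Y}
    (hy : RFour.As (im f M) (zz (im f L)) y) : ∃ m ∈ M, ∃ hm : m ∈ centralizer ({e} : Set G), f ⟨m, hm⟩ = y ∧
      As M (zz L) m := by
  have qm := (q.qt qf).qm hev
  obtain ⟨m, hm, rfl⟩ := hy.1
  have hl := hL.2 (q.wm.hyp.zz_mem hL.1)
  have h1 : ∀ k ∈ M.subgroupOf (centralizer {e}), f ((⟨zz L, hl⟩ : ↥(centralizer ({e} : Set G))) * k *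
      (⟨zz L, hl⟩ : ↥(centralizer ({e} : Set G)))⁻¹) = f (m * k * m⁻¹) := by
    intro k hk
    have h2 := hy.2 (f k) ⟨k, hk, rfl⟩
    rw [q.zz_im hev qf hL hl] at h2
    rw [map_mul, map_mul, map_mul, map_mul, map_inv, map_inv, h2]
  have h2 := qm.as_lift (sub_mem hM) hm h1
  refine ⟨m, hm, m.2, rfl, hm, fun k hk => ?_⟩
  exact congrArg Subtype.val (h2 ⟨k, hM.2 hk⟩ hk)

theorem ti_lift [Finite Y] {K L M : Subgroup G} (_ : K ∈ Me Om e) (hL : L ∈ Me Om e) (hM : M ∈ Me Om e)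
    (hKM : zz (im f M) = zz (im f K)) (hti : RFour.TI (img f (restr Om (centralizer {e}))) (zz (im f K)) (zz (im f L))) :
    TI Om (zz M) (zz L) := by
  have h := q.w4 hev qf
  have hMm : RFour.Mem (img f (restr Om (centralizer {e}))) (zz (im f K)) (im f M) := ⟨im_mem hM, hKM⟩
  obtain ⟨y, hy, hyy⟩ := hti.exists_as h hMm
  obtain ⟨m, hm, hm', rfl, hAs⟩ := q.as_of_ti hev qf hL hM hy
  have mM : Mem Om (zz M) M := ⟨hM.1, rfl⟩
  refine TI.of_one q.wm mM ⟨L, hL.1, rfl⟩ ?_ ?_ ?_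
  · intro he
    apply hti.ne
    have h1 := hM.2 (q.wm.hyp.zz_mem hM.1)
    have h2 := hL.2 (q.wm.hyp.zz_mem hL.1)
    rw [← hKM, q.zz_im hev qf hM h1, q.zz_im hev qf hL h2]
    congr 1
    exact Subtype.ext he
  · intro k hk
    rw [hAs.2 k hk]
    exact mM.comm_or q.wm hk hm
  · intro hc
    apply hti.ne
    symm
    have h2 := hL.2 (q.wm.hyp.zz_mem hL.1)
    refine hti.inT.eq_of_cent hMm h ?_
    rintro _ ⟨k, hk, rfl⟩
    rw [q.zz_im hev qf hL h2, ← map_mul, ← map_mul]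
    congr 1
    exact Subtype.ext (hc k hk)

end

theorem mem_zs (q : QH Om e) (hK : K ∈ Me Om e) : zz K ∈ ZS Om e := by
  obtain ⟨⟨L, mL⟩, hcp⟩ := q.cp K hK
  refine ⟨⟨K, hK.1, rfl⟩, mem_CX.2 fun M hM m hm => ?_⟩
  have h1 := hcp.2 M hM L mL m hm _ (mL.zmem q.wm)
  have h2 := hM.comm_z q.wm hm
  have h3 : e = (zz K) * (zz K * e) := by rw [← mul_assoc, q.wm.hyp.zz_mul hK.1, one_mul]
  calc e * m = (zz K) * ((zz K * e) * m) := by nth_rewrite 1 [h3]; group
    _ = (zz K * m) * (zz K * e) := by rw [← h1]; group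
    _ = m * ((zz K) * (zz K * e)) := by rw [← h2]; group
    _ = m * e := by rw [← h3]

/-- the other point of the fibre -/
theorem me_of_mem (q : QH Om e) {M : Subgroup G} (hK : K ∈ Me Om e) (hM : Mem Om (zz K * e) M) : M ∈ Me Om e := by
  obtain ⟨-, hcp⟩ := q.cp K hK
  refine mem_Me.2 ⟨hM.1, fun m hm => ?_⟩
  have h1 := hcp.2 K ⟨hK.1, rfl⟩ M hM _ (q.wm.hyp.zz_mem hK.1) m hm
  have h2 := hM.comm_z q.wm hm
  have h3 : e = (zz K) * (zz K * e) := by rw [← mul_assoc, q.wm.hyp.zz_mul hK.1, one_mul]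
  calc e * m = (zz K) * ((zz K * e) * m) := by nth_rewrite 1 [h3]; group
    _ = (zz K * m) * (zz K * e) := by rw [← h2]; group
    _ = m * ((zz K) * (zz K * e)) := by rw [h1]; group
    _ = m * e := by rw [← h3]

/-- **two common type I partners of `a` and `a e` in `Z(e)` which do not commute** -/
theorem exists_nc (q : QH Om e) (hev : ∀ (G : Type u) [Group G] [Finite G], Comp.EvQ G) (i : RFour.LIn.{u}) :
    ∃ a t t', a ∈ ZS Om e ∧ t ∈ ZS Om e ∧ t' ∈ ZS Om e ∧ CP Om a (a * e) ∧ TI Om a t ∧ TI Om a t' ∧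
      TI Om (a * e) t ∧ TI Om (a * e) t' ∧ t * t' ≠ t' * t := by
  obtain ⟨Y, _, _, f, qf⟩ := q.exists_f
  obtain ⟨z, t, t', h1, h2, h3⟩ := q.exists_ti hev qf i
  obtain ⟨K, hK, rfl⟩ := q.exists_pt hev qf h1.inZ
  obtain ⟨L, hL, rfl⟩ := q.exists_pt hev qf h1.inT
  obtain ⟨L', hL', rfl⟩ := q.exists_pt hev qf h2.inT
  obtain ⟨⟨M, mM⟩, hcp⟩ := q.cp K hK
  have hM := q.me_of_mem hK mM
  have hzz := q.wm.hyp.zz_mul hK.1
  have hMK : zz (im f M) = zz (im f K) := by
    rw [q.zz_im_eq_iff hev qf hM hK]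
    intro N hN k hk
    have h5 : e * zz K = zz K * e := (mem_Me.1 hK).2 _ (q.wm.hyp.zz_mem hK.1)
    have h6 : zz M * zz K = e := by rw [mM.2, mul_assoc, h5, ← mul_assoc, hzz, one_mul]
    rw [h6]
    exact (mem_Me.1 hN).2 k hk
  have k1 := q.ti_lift hev qf hK hL hM hMK h1
  have k2 := q.ti_lift hev qf hK hL' hM hMK h2
  rw [mM.2] at k1 k2
  refine ⟨zz K, zz L, zz L', q.mem_zs hK, q.mem_zs hL, q.mem_zs hL', hcp, q.ti_lift hev qf hK hL hK rfl h1,
    q.ti_lift hev qf hK hL' hK rfl h2, k1, k2, fun h4 => h3 ?_⟩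
  have h5 := hL.2 (q.wm.hyp.zz_mem hL.1)
  have h6 := hL'.2 (q.wm.hyp.zz_mem hL'.1)
  rw [q.zz_im hev qf hL h5, q.zz_im hev qf hL' h6, ← map_mul, ← map_mul]
  congr 1
  exact Subtype.ext h4

end QH

end Cfsg.Agent.Cit.Nil.RTwoM.Quo
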