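import Cfsg.Agent.Cit.Nil.RTwoM.AN.QuoY
import Cfsg.Agent.Cit.Nil.ANTwo.Inst
import Cfsg.Agent.Cit.Nil.RTwoM.Two.Kap
import Cfsg.Agent.Cit.Nil.RTwoM.EndX

/-!
# `AN(s)`, `r = 2`, `m = 2`: the hypotheses `QH Om (z u)`

* `CTwo Om` : `|C_S| ≤ 2`; `CTwo.no3` : no 3-cliques; `CTwo.pair` : any two (member, C-partner) are conjugate;
* `EH Om S z u` : `C_S = {z, u}`, the frame of step (1) (helper673's `Fr`);
* **`EH.qh`** : `QH Om (z u)`.
-/

set_option autoImplicit false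
set_option linter.style.haveILetI false
set_option linter.unusedSectionVars false

namespace Cfsg.Agent.Cit.Nil.RTwoM.Quo

open Subgroup Cfsg Cit IndDefs Cfsg.Agent.StdEven.Syl Cfsg.Agent.OddOrderLocal.NilParts

open RG (CP WR)
open RI (CS)

variable {G : Type*} [Group G] [Finite G] {Om : Set (Subgroup G)} {S : Sylow 2 G}
  {a b c e g k s t u v w x y z a' b' : G} {A B K L M : Subgroup G}

/-- `|C_S| ≤ 2` -/
def CTwo (Om : Set (Subgroup G)) : Prop := ∀ (T : Sylow 2 G) (a b c : G), a ∈ CS Om (T : Subgroup G) →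
  b ∈ CS Om (T : Subgroup G) → c ∈ CS Om (T : Subgroup G) → a ≠ b → c = a ∨ c = b

theorem CTwo.no3 (two : CTwo Om) (h : WM Om) (ha : InZ Om a) (hb : InZ Om b) (hc : InZ Om c) (hab : CP Om a b)
    (hac : CP Om a c) : ¬ CP Om b c := by
  intro hbc
  obtain ⟨T, h1, h2⟩ := exists_sylow_of_cp h ha hb hab
  have h3 : c ∈ CS Om (T : Subgroup G) := mem_CS_of_clique h T hc fun w hw => by
    rcases two T a b w h1 h2 hw hab.1 with rfl | rfl
    · exact Or.inr hac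
    · exact Or.inr hbc
  rcases two T a b c h1 h2 h3 hab.1 with rfl | rfl
  · exact hac.1 rfl
  · exact hbc.1 rfl

theorem RZ_pg (h : WM Om) (hz : InZ Om z) : IsPGroup 2 (RZ Om z) := by
  obtain ⟨T, hT⟩ := exists_sylow h hz
  exact T.isPGroup'.to_le (CS.RZ_le hT h)

/-- any two (member, C-partner) are conjugate -/
theorem CTwo.pair (two : CTwo Om) (h : WM Om) (cls : OneCls Om) (hA : Mem Om a A) (ha' : InZ Om a') (hc : CP Om a a')
    (hB : Mem Om b B) (hb' : InZ Om b') (hc' : CP Om b b') :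
    ∃ g, cj g B = A ∧ g * b * g⁻¹ = a ∧ g * b' * g⁻¹ = a' := by
  haveI : Fact (Nat.Prime 2) := ⟨Nat.prime_two⟩
  obtain ⟨g, hg⟩ := cls B hB.1 A hA.1
  have hgb : g * b * g⁻¹ = a := by rw [← (hB.cj h g).2, hg, hA.2]
  obtain ⟨v, hv⟩ : ∃ v, v = g * b' * g⁻¹ := ⟨_, rfl⟩
  have hvZ : InZ Om v := by rw [hv]; exact hb'.conj h g
  have hav : CP Om a v := by rw [hv, ← hgb]; exact cp_conj h hc' g
  -- `R_{a'}`, `R_v ≤ C(A)`
  have key : ∀ w, CP Om a w → RZ Om w ≤ centralizer (A : Set G) := by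
    intro w hw r hr
    rw [mem_centralizer_iff]
    intro k hk
    exact cp_RZ h hw (hA.le_RZ hk) hr
  obtain ⟨P, hP, haP⟩ := exists_isSyl (RZ_pg h ha') (key a' hc)
  obtain ⟨n, hn, hn2⟩ := hP.exists_conj (RZ_pg h hvZ) (key v hav)
  have hnA : ∀ k ∈ A, n * k = k * n := fun k hk => (mem_centralizer_iff.1 hn k hk).symm
  have hAP : A ≤ normalizer (P : Set G) := by
    intro k hk
    apply mem_normalizer_of_conj_le
    intro p hp
    have h1 := mem_centralizer_iff.1 (hP.le hp) k hk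
    have h2 : k * p * k⁻¹ = p := by rw [h1]; group
    rw [h2]; exact hp
  have hT : IsPGroup 2 (A ⊔ P : Subgroup G) :=
    OneBasic.isPGroup_sup_of_normalizes (h.isPGroup hA.1) hP.two hAP
  obtain ⟨T, hT1⟩ := hT.exists_le_sylow
  have haT : a ∈ CS Om (T : Subgroup G) := ⟨A, hA, le_sup_left.trans hT1⟩
  have ha'T : a' ∈ CS Om (T : Subgroup G) := by
    obtain ⟨K, hK⟩ := ha'
    exact ⟨K, hK, hK.le_RZ.trans (haP.trans (le_sup_right.trans hT1))⟩
  have hvT : n * v * n⁻¹ ∈ CS Om (T : Subgroup G) := by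
    obtain ⟨K, hK⟩ := hvZ
    refine ⟨cj n K, hK.cj h n, ?_⟩
    rintro _ ⟨k, hk, rfl⟩
    exact hT1 (mem_sup_right (hn2 k (hK.le_RZ hk)))
  have hna : n * a * n⁻¹ = a := by rw [hnA a (hA.zmem h)]; group
  refine ⟨n * g, ?_, ?_, ?_⟩
  · rw [cj_mul, hg]
    ext x
    rw [mem_cj]
    constructor
    · intro hx
      have h1 := hnA _ hx
      have h2 : x = n⁻¹ * x * n := by
        calc x = n * (n⁻¹ * x * n) * n⁻¹ := by group
          _ = (n⁻¹ * x * n) * n * n⁻¹ := by rw [h1]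
          _ = n⁻¹ * x * n := by group
      rw [h2]; exact hx
    · intro hx
      have h1 := hnA _ hx
      have h2 : n⁻¹ * x * n = x := by
        calc n⁻¹ * x * n = n⁻¹ * (x * n) := by group
          _ = n⁻¹ * (n * x) := by rw [h1]
          _ = x := by group
      rw [h2]; exact hx
  · calc n * g * b * (n * g)⁻¹ = n * (g * b * g⁻¹) * n⁻¹ := by group
      _ = a := by rw [hgb, hna]
  · have h1 : n * g * b' * (n * g)⁻¹ = n * v * n⁻¹ := by rw [hv]; group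
    rw [h1]
    rcases two T a a' _ haT ha'T hvT hc.1 with h2 | h2
    · exfalso
      apply hav.1
      have h3 : n * v * n⁻¹ = n * a * n⁻¹ := by rw [h2, hna]
      exact (mul_left_cancel (mul_right_cancel h3)).symm
    · exact h2

/-- the hypotheses, after step (1) -/
structure EH (Om : Set (Subgroup G)) (S : Sylow 2 G) (z u : G) : Prop where
  wm : WM Om
  cls : OneCls Om
  c3 : C3E Om
  two : CTwo Om
  nw : ANTwo.NW (RG.ZZ Om) (RG.RR Om)
  hz : z ∈ CS Om (S : Subgroup G)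
  hu : u ∈ CS Om (S : Subgroup G)
  ne : z ≠ u
  core : pPrimeCore 2 ↥(centralizer ({z * u} : Set G)) = ⊥
  fr : ∃ KK, ANTwo.Fr (RG.ZZ Om) (RG.RR Om) (S : Subgroup G) KK

namespace EH

variable (q : EH Om S z u)

include q

theorem cp : CP Om z u := CS.cp q.hz q.wm S.isPGroup' q.hu q.ne

theorem e_TT : z * u ∈ TT Om (S : Subgroup G) := mul_mem (CS.mem_TT q.hz) (CS.mem_TT q.hu)

theorem zu : z * u = u * z := CS.comm q.hz q.wm S.isPGroup' q.hu

theorem e_ne : z * u ≠ 1 := by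
  intro h
  apply q.ne
  have h1 := eq_inv_of_mul_eq_one_left h
  rwa [(CS.inZ q.hu).inv q.wm] at h1

theorem omz : ANTwo.NW (RG.ZZ Om) (RG.RR Om) ∧ AN.OmZ (RG.ZZ Om) (RG.RR Om) (S : Subgroup G) = CS Om (S : Subgroup G) :=
  ⟨q.nw, ANTwo.omZ_eq q.wm S⟩

theorem e_T0 : z * u ∈ AN.T0 (RG.ZZ Om) (RG.RR Om) (S : Subgroup G) :=
  q.nw.w.mul_mem_T0 (by rw [ANTwo.omZ_eq q.wm S]; exact q.hz) (by rw [ANTwo.omZ_eq q.wm S]; exact q.hu)

/-- `e` centralises all members over the involution of a member of `C(e)` -/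
theorem cx_of_me (hK : K ∈ Me Om (z * u)) : z * u ∈ CX Om (zz K) :=
  ANTwo.cent_all q.wm S q.e_TT ⟨hK.1, rfl⟩ (mem_Me.1 hK).2

theorem me_of_cx (hx : z * u ∈ CX Om x) (hK : Mem Om x K) : K ∈ Me Om (z * u) :=
  mem_Me.2 ⟨hK.1, mem_CX.1 hx K hK⟩

theorem om_iff (hx : InZ Om x) : x ∈ AN.Om (RG.ZZ Om) (RG.RR Om) (z * u) ↔ z * u ∈ CX Om x :=
  ⟨fun h => (ANTwo.ce_iff q.wm).1 h.2, fun h => ⟨hx, (ANTwo.ce_iff q.wm).2 h⟩⟩

theorem om_of_me (hK : K ∈ Me Om (z * u)) : zz K ∈ AN.Om (RG.ZZ Om) (RG.RR Om) (z * u) :=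
  (q.om_iff ⟨K, hK.1, rfl⟩).2 (q.cx_of_me hK)

theorem cs_cx (hx : x ∈ CS Om (S : Subgroup G)) : z * u ∈ CX Om x := TT_cx q.wm S.isPGroup' hx q.e_TT

theorem cs_cases (hx : x ∈ CS Om (S : Subgroup G)) : x = z ∨ x = u := q.two S z u x q.hz q.hu hx q.ne

/-- the members of `C(e)` are `C(e)`-conjugate to members in `S` -/
theorem exists_base (hK : K ∈ Me Om (z * u)) : ∃ c a a', c * (z * u) = z * u * c ∧ Mem Om a (cj c K) ∧
    a ∈ CS Om (S : Subgroup G) ∧ a' ∈ CS Om (S : Subgroup G) ∧ CP Om a a' ∧ a * a' = z * u := by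
  obtain ⟨c, hc, hcS⟩ := q.nw.w.om_into (isSyl_top_of_sylow S) (s := z * u)
    (fun x hx => (ANTwo.ce_iff q.wm).2 (q.cs_cx (by rw [ANTwo.omZ_eq q.wm S] at hx; exact hx))) (q.om_of_me hK)
  rw [ANTwo.omZ_eq q.wm S] at hcS
  have h1 : Mem Om (c * zz K * c⁻¹) (cj c K) := Mem.cj ⟨hK.1, rfl⟩ q.wm c
  rcases q.cs_cases hcS with h2 | h2
  · exact ⟨c, _, u, hc, h1, hcS, q.hu, by rw [h2]; exact q.cp, by rw [h2]⟩
  · exact ⟨c, _, z, hc, h1, hcS, q.hz, by rw [h2]; exact q.cp.symm, by rw [h2]; exact q.zu.symm⟩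

/-- all members of `C(e)` are `C(e)`-conjugate -/
theorem trans (hK : K ∈ Me Om (z * u)) (hL : L ∈ Me Om (z * u)) : ∃ g, g * (z * u) = z * u * g ∧ cj g K = L := by
  obtain ⟨c, a, a', h1, h2, h3, h4, h5, h6⟩ := q.exists_base hK
  obtain ⟨d, b, b', k1, k2, k3, k4, k5, k6⟩ := q.exists_base hL
  obtain ⟨g, hg, hgb, hgb'⟩ := q.two.pair q.wm q.cls k2 (CS.inZ k4) k5 h2 (CS.inZ h4) h5
  have hge : g * (z * u) = z * u * g := by
    have h7 : g * (a * a') * g⁻¹ = b * b' := by rw [← hgb, ← hgb']; group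
    rw [h6, k6] at h7
    exact mul_inv_eq_iff_eq_mul.1 h7
  have hdi : d⁻¹ * (z * u) = z * u * d⁻¹ := by
    calc d⁻¹ * (z * u) = d⁻¹ * (z * u * d) * d⁻¹ := by group
      _ = d⁻¹ * (d * (z * u)) * d⁻¹ := by rw [k1]
      _ = z * u * d⁻¹ := by group
  refine ⟨d⁻¹ * g * c, ?_, ?_⟩
  · calc d⁻¹ * g * c * (z * u) = d⁻¹ * g * (c * (z * u)) := by group
      _ = d⁻¹ * g * (z * u * c) := by rw [h1]
      _ = d⁻¹ * (g * (z * u)) * c := by group
      _ = d⁻¹ * (z * u * g) * c := by rw [hge]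
      _ = (d⁻¹ * (z * u)) * g * c := by group
      _ = z * u * d⁻¹ * g * c := by rw [hdi]
      _ = _ := by group
  · rw [cj_mul, cj_mul, hg, cj_inv_cj]

theorem exists_z : ∃ K, K ∈ Me Om (z * u) ∧ zz K = z ∧ K ≤ (S : Subgroup G) := by
  obtain ⟨K, hK⟩ := CS.inZ q.hz
  exact ⟨K, q.me_of_cx (q.cs_cx q.hz) hK, hK.2, CS.le q.hz q.wm hK⟩

theorem ze : z * (z * u) = u := by
  rw [← mul_assoc, (CS.inZ q.hz).z2 q.wm, one_mul]

theorem cpp (hK : K ∈ Me Om (z * u)) : InZ Om (zz K * (z * u)) ∧ CP Om (zz K) (zz K * (z * u)) := by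
  obtain ⟨K0, hK0, hz0, -⟩ := q.exists_z
  obtain ⟨g, hg, rfl⟩ := q.trans hK0 hK
  have h1 : zz (cj g K0) = g * z * g⁻¹ := by rw [q.wm.hyp.zz_cj hK0.1, hz0]
  have h2 : zz (cj g K0) * (z * u) = g * u * g⁻¹ := by
    rw [h1]
    calc g * z * g⁻¹ * (z * u) = g * z * g⁻¹ * (z * u * g) * g⁻¹ := by group
      _ = g * z * g⁻¹ * (g * (z * u)) * g⁻¹ := by rw [hg]
      _ = g * (z * (z * u)) * g⁻¹ := by group
      _ = _ := by rw [q.ze]
  rw [h2, h1]
  exact ⟨(CS.inZ q.hu).conj q.wm g, cp_conj q.wm q.cp g⟩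

theorem rot (hK : K ∈ Me Om (z * u)) (hy : y ∈ K) (hyy : y * y = zz K) :
    ∃ g, g * (z * u) = z * u * g ∧ cj g K = K ∧ g * y * g⁻¹ ≠ y ∧ g * y * g⁻¹ ≠ y⁻¹ := by
  obtain ⟨K0, hK0, hz0, hK0S⟩ := q.exists_z
  obtain ⟨g, hg, rfl⟩ := q.trans hK0 hK
  obtain ⟨k, hr, hS⟩ := Two.WM.kap_S q.wm q.c3 S ⟨hK0.1, hz0⟩ hK0S
  have hku : k * u * k⁻¹ = u := by
    obtain ⟨N, hN⟩ := CS.inZ q.hu
    have h1 : k * u * k⁻¹ ∈ CS Om (S : Subgroup G) := ⟨cj k N, hN.cj q.wm k, hS N hN.1 (CS.le q.hu q.wm hN)⟩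
    rcases q.cs_cases h1 with h2 | h2
    · exfalso
      apply q.ne
      have h3 : k * u * k⁻¹ = k * z * k⁻¹ := by rw [h2, hr.cz]; group
      exact (mul_left_cancel (mul_right_cancel h3)).symm
    · exact h2
  have hke : k * (z * u) = z * u * k := by
    calc k * (z * u) = (k * z) * u := by group
      _ = z * (k * u * k⁻¹) * k := by rw [hr.cz]; group
      _ = z * u * k := by rw [hku]
  have hgi : g⁻¹ * (z * u) = z * u * g⁻¹ := by
    calc g⁻¹ * (z * u) = g⁻¹ * (z * u * g) * g⁻¹ := by group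
      _ = g⁻¹ * (g * (z * u)) * g⁻¹ := by rw [hg]
      _ = z * u * g⁻¹ := by group
  obtain ⟨x, hx⟩ : ∃ x, x = g⁻¹ * y * g := ⟨_, rfl⟩
  have hyx : y = g * x * g⁻¹ := by rw [hx]; group
  have hxK : x ∈ K0 := by rw [hx]; exact mem_cj.1 hy
  have hxx : x * x = z := by
    rw [q.wm.hyp.zz_cj hK0.1, hz0] at hyy
    have h1 : x * x = g⁻¹ * (y * y) * g := by rw [hx]; group
    rw [h1, hyy]; group
  have h1 := hr.rot x hxK hxx
  refine ⟨g * k * g⁻¹, ?_, ?_, ?_, ?_⟩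
  · calc g * k * g⁻¹ * (z * u) = g * k * (g⁻¹ * (z * u)) := by group
      _ = g * k * (z * u * g⁻¹) := by rw [hgi]
      _ = g * (k * (z * u)) * g⁻¹ := by group
      _ = g * (z * u * k) * g⁻¹ := by rw [hke]
      _ = (g * (z * u)) * k * g⁻¹ := by group
      _ = (z * u * g) * k * g⁻¹ := by rw [hg]
      _ = _ := by group
  · rw [cj_mul, cj_mul, cj_inv_cj, hr.cK]
  · intro h2
    apply h1
    have h3 : k * x * k⁻¹ = x := by
      have h4 : g * (k * x * k⁻¹) * g⁻¹ = g * x * g⁻¹ := by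
        rw [← hyx, ← h2, hyx]; group
      exact mul_left_cancel (mul_right_cancel h4)
    rw [h3]
  · intro h2
    apply h1
    have h3 : k * x * k⁻¹ = x⁻¹ := by
      have h4 : g * (k * x * k⁻¹) * g⁻¹ = g * x⁻¹ * g⁻¹ := by
        have h5 : g * x⁻¹ * g⁻¹ = y⁻¹ := by rw [hyx]; group
        rw [h5, ← h2, hyx]; group
      exact mul_left_cancel (mul_right_cancel h4)
    rw [h3]; group

theorem one (hK : K ∈ Me Om (z * u)) (hL : L ∈ Me Om (z * u)) (hc : IndDefs.Cm K L) :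
    AllC Om (z * u) (zz K * zz L) := by
  intro M hM m hm
  by_cases hKL : zz K = zz L
  · rw [hKL, q.wm.hyp.zz_mul hL.1, one_mul, mul_one]
  obtain ⟨KK, fr⟩ := q.fr
  have h1 : CP Om (zz K) (zz L) := cp_of_cen q.wm ⟨hK.1, rfl⟩ ⟨L, hL.1, rfl⟩ hKL
    (fun k hk => (hc k hk _ (q.wm.hyp.zz_mem hL.1)).symm)
  have h2 : AN.Cm (RG.RR Om (zz K)) (RG.RR Om (zz L)) := by
    intro x hx y hy
    rw [RR_eq] at hx hy
    exact cp_RZ q.wm h1 hx hy
  have h3 := fr.om _ q.e_T0 q.e_ne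
  have hmem : ∀ {N}, N ∈ Me Om (z * u) → zz N ∈ KK := fun hN => by rw [← h3]; exact q.om_of_me hN
  exact fr.one _ (hmem hK) _ (hmem hL) h2 _ (hmem hM) m (by
    rw [RR_eq]
    exact Mem.le_RZ ⟨hM.1, rfl⟩ hm)

theorem nnil (hx : x ∈ CS Om (S : Subgroup G)) : x ∉ oP 2 (centralizer {z * u}) := by
  obtain ⟨KK, fr⟩ := q.fr
  exact fr.nnil _ q.e_T0 q.e_ne x (by rw [ANTwo.omZ_eq q.wm S]; exact hx)

theorem nn : ∃ K ∈ restr Om (centralizer {z * u}), ¬ NIL K := by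
  obtain ⟨K, hK, hzK, -⟩ := q.exists_z
  refine ⟨K.subgroupOf (centralizer {z * u}), QH.sub_mem hK, fun hn => q.nnil q.hz ?_⟩
  have h1 : ((zz (K.subgroupOf (centralizer {z * u})) : ↥(centralizer ({z * u} : Set G))) : G) = z := by
    rw [Cit.zz_map q.wm.hyp (QH.sub_mem hK), QH.map_sub hK, hzK]
  have h2 := mem_map_of_mem (centralizer ({z * u} : Set G)).subtype hn
  rw [coe_subtype, h1] at h2
  exact h2

theorem fib (hK : K ∈ Me Om (z * u)) (hL : L ∈ Me Om (z * u)) (hc : AllC Om (z * u) (zz K * zz L)) :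
    zz L = zz K ∨ zz L = zz K * (z * u) := by
  obtain ⟨h1, h2⟩ := q.cpp hK
  have hKZ : InZ Om (zz K) := ⟨K, hK.1, rfl⟩
  have hLZ : InZ Om (zz L) := ⟨L, hL.1, rfl⟩
  have heq : zz L = zz K * (zz K * zz L) := by rw [← mul_assoc, q.wm.hyp.zz_mul hK.1, one_mul]
  have hce : (z * u) * zz K = zz K * (z * u) := (mem_Me.1 hK).2 _ (q.wm.hyp.zz_mem hK.1)
  have hx1 : zz L ∈ CX Om (zz K) := by
    rw [heq]
    refine mul_mem (z_mem_CX q.wm) ?_
    rw [mem_CX]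
    intro M hM m hm
    exact hc M (q.me_of_cx (q.cx_of_me hK) hM) m hm
  have hx2 : zz L ∈ CX Om (zz K * (z * u)) := by
    rw [heq]
    refine mul_mem (cp_cx q.wm hKZ h2.symm) ?_
    rw [mem_CX]
    intro M hM m hm
    refine hc M (mem_Me.2 ⟨hM.1, fun k hk => ?_⟩) m hm
    -- `e = (z_K) (z_K e)` centralises `M`
    have h3 := cp_RZ q.wm h2 (z_mem_RZ hKZ q.wm) (hM.le_RZ hk)
    have h4 := hM.comm_z q.wm hk
    have h5 : z * u = zz K * (zz K * (z * u)) := by rw [← mul_assoc, q.wm.hyp.zz_mul hK.1, one_mul]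
    calc z * u * k = zz K * (zz K * (z * u)) * k := by rw [← h5]
      _ = zz K * (zz K * (z * u) * k) := by group
      _ = zz K * (k * (zz K * (z * u))) := by rw [h4]
      _ = (zz K * k) * (zz K * (z * u)) := by group
      _ = (k * zz K) * (zz K * (z * u)) := by rw [h3]
      _ = k * (zz K * (zz K * (z * u))) := by group
      _ = k * (z * u) := by rw [← h5]
  rcases (cen_iff q.wm hKZ hLZ).1 hx1 with h3 | h3
  · exact Or.inl h3.symm
  rcases (cen_iff q.wm h1 hLZ).1 hx2 with h4 | h4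
  · exact Or.inr h4.symm
  · exact absurd h4 (q.two.no3 q.wm hKZ h1 hLZ h2 h3)

/-- every point of `C(e)` lies in the class of `z` -/
theorem pt (hx : x ∈ AN.Om (RG.ZZ Om) (RG.RR Om) (z * u)) : x ∈ AN.Cl (RG.ZZ Om) (RG.RR Om) (z * u) z := by
  have w := q.nw.w
  have hS := isSyl_top_of_sylow S
  have hzS : z ∈ AN.OmZ (RG.ZZ Om) (RG.RR Om) (S : Subgroup G) := by rw [ANTwo.omZ_eq q.wm S]; exact q.hz
  have hs := w.T0_le q.e_T0
  have hzt := w.om_mem hS hs hzS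
  have hall : ∀ y ∈ AN.OmZ (RG.ZZ Om) (RG.RR Om) (S : Subgroup G), y ∈ AN.Cl (RG.ZZ Om) (RG.RR Om) (z * u) z :=
    fun y hy => q.nw.all_mem hS hs hzS (q.nnil q.hz) hy
  obtain ⟨c, hc, hcu⟩ := w.om_into hS (fun z hz => w.T0_ce hS q.e_T0 hz) hx
  have hc' : c⁻¹ * (z * u) = (z * u) * c⁻¹ := by
    calc c⁻¹ * (z * u) = c⁻¹ * ((z * u) * c) * c⁻¹ := by group
      _ = c⁻¹ * (c * (z * u)) * c⁻¹ := by rw [hc]
      _ = (z * u) * c⁻¹ := by group
  have h1 := w.cl_conj hc' hzt (hall _ hcu)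
  have e : c⁻¹ * (c * x * c⁻¹) * c⁻¹⁻¹ = x := by group
  rw [e] at h1
  by_cases hcl : c⁻¹ * z * c⁻¹⁻¹ ∈ AN.Cl (RG.ZZ Om) (RG.RR Om) (z * u) z
  · exact AN.cl_trans hcl h1
  · exfalso
    apply hcl
    apply hall
    have hzc : c⁻¹ * z * c⁻¹⁻¹ ∈ AN.Om (RG.ZZ Om) (RG.RR Om) (z * u) := w.om_conj' hc' hzt
    apply w.om_of_cm hS hzc.1
    intro v hv _
    exact AN.cl_cm (hall v hv) hzc hcl

/-- each point of `C(e)` has a neighbour -/
theorem exists_nb (hx : x ∈ AN.Om (RG.ZZ Om) (RG.RR Om) (z * u)) : ∃ v ∈ AN.Om (RG.ZZ Om) (RG.RR Om) (z * u), v ≠ x ∧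
    ¬ AN.Cm (RG.RR Om x) (RG.RR Om v) := by
  by_contra hcon
  push Not at hcon
  have h1 : ∀ y ∈ AN.Cl (RG.ZZ Om) (RG.RR Om) (z * u) x, y = x := by
    intro y hy
    have hy' : Relation.ReflTransGen (AN.St (RG.ZZ Om) (RG.RR Om) (z * u)) x y := hy
    clear hy
    induction hy' with
    | refl => rfl
    | @tail b c h1 h2 ih =>
      subst ih
      by_contra hne
      exact h2.2 (hcon c h2.1 hne)
  have hzt : z ∈ AN.Om (RG.ZZ Om) (RG.RR Om) (z * u) := (q.om_iff (CS.inZ q.hz)).2 (q.cs_cx q.hz)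
  have hut : u ∈ AN.Om (RG.ZZ Om) (RG.RR Om) (z * u) := (q.om_iff (CS.inZ q.hu)).2 (q.cs_cx q.hu)
  have h2 := AN.cl_symm hzt (q.pt hx)
  apply q.ne
  rw [h1 z h2, h1 u (AN.cl_trans h2 (q.pt hut))]

/-- members over two points which do not commute -/
theorem adj (hK : K ∈ Me Om (z * u)) (hL : L ∈ Me Om (z * u)) (hne : zz K ≠ zz L)
    (hc : ¬ AN.Cm (RG.RR Om (zz K)) (RG.RR Om (zz L))) :
    IndDefs.Adj (restr Om (centralizer {z * u})) (K.subgroupOf (centralizer {z * u})) (L.subgroupOf (centralizer {z * u})) := by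
  refine ⟨QH.sub_mem hK, QH.sub_mem hL, fun h1 => hc ?_⟩
  have h2 : CP Om (zz K) (zz L) := cp_of_cen q.wm ⟨hK.1, rfl⟩ ⟨L, hL.1, rfl⟩ hne fun k hk =>
    (congrArg Subtype.val (h1 ⟨k, hK.2 hk⟩ hk ⟨zz L, hL.2 (q.wm.hyp.zz_mem hL.1)⟩ (q.wm.hyp.zz_mem hL.1))).symm
  intro x hx y hy
  rw [RR_eq] at hx hy
  exact cp_RZ q.wm h2 hx hy

theorem conn_same (hK : K ∈ Me Om (z * u)) (hL : L ∈ Me Om (z * u)) (hKL : zz K = zz L) :
    L.subgroupOf (centralizer {z * u}) ∈ comp (restr Om (centralizer {z * u})) (K.subgroupOf (centralizer {z * u})) := by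
  obtain ⟨v, hv, hne, hc⟩ := q.exists_nb (q.om_of_me hK)
  obtain ⟨M, hM⟩ : InZ Om v := hv.1
  have hMe : M ∈ Me Om (z * u) := q.me_of_cx ((q.om_iff ⟨M, hM⟩).1 hv) hM
  have h1 := q.adj hK hMe (by rw [hM.2]; exact hne.symm) (by rw [hM.2]; exact hc)
  have h2 := q.adj hL hMe (by rw [hM.2, ← hKL]; exact hne.symm) (by rw [hM.2, ← hKL]; exact hc)
  exact mem_comp_of (mem_comp_of mem_comp_self h1) h2.symm

theorem conn_z (hK : K ∈ Me Om (z * u)) (hz : zz K = z) (hx : x ∈ AN.Om (RG.ZZ Om) (RG.RR Om) (z * u)) :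
    ∀ L, Mem Om x L → L ∈ Me Om (z * u) → L.subgroupOf (centralizer {z * u}) ∈
      comp (restr Om (centralizer {z * u})) (K.subgroupOf (centralizer {z * u})) := by
  have hx' : Relation.ReflTransGen (AN.St (RG.ZZ Om) (RG.RR Om) (z * u)) z x := q.pt hx
  clear hx
  induction hx' with
  | refl => exact fun L hL hLe => q.conn_same hK hLe (by rw [hz, hL.2])
  | @tail b c h1 h2 ih =>
    intro L hL hLe
    by_cases hbc : b = c
    · subst hbc; exact ih L hL hLe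
    · have hb : b ∈ AN.Om (RG.ZZ Om) (RG.RR Om) (z * u) :=
        AN.cl_sub ((q.om_iff (CS.inZ q.hz)).2 (q.cs_cx q.hz)) h1
      obtain ⟨M, hM⟩ : InZ Om b := hb.1
      have hMe : M ∈ Me Om (z * u) := q.me_of_cx ((q.om_iff ⟨M, hM⟩).1 hb) hM
      exact mem_comp_of (ih M hM hMe) (q.adj hMe hLe (by rw [hM.2, hL.2]; exact hbc) (by rw [hM.2, hL.2]; exact h2.2))

theorem conn (hK : K ∈ Me Om (z * u)) (hL : L ∈ Me Om (z * u)) : L.subgroupOf (centralizer {z * u}) ∈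
    comp (restr Om (centralizer {z * u})) (K.subgroupOf (centralizer {z * u})) := by
  obtain ⟨M, hM, hzM, -⟩ := q.exists_z
  exact comp_trans (comp_symm (q.conn_z hM hzM (q.om_of_me hK) K ⟨hK.1, rfl⟩ hK))
    (q.conn_z hM hzM (q.om_of_me hL) L ⟨hL.1, rfl⟩ hL)

/-- **the hypotheses of the world `Y`** -/
theorem qh : QH Om (z * u) where
  wm := q.wm
  core := q.core
  conn := by
    intro A hA B hB
    obtain ⟨K, hK, rfl⟩ := QH.exists_me hA
    obtain ⟨L, hL, rfl⟩ := QH.exists_me hB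
    exact q.conn hK hL
  nn := q.nn
  one := fun K hK L hL => q.one hK hL
  trans := fun K hK L hL => q.trans hK hL
  rot := fun K hK y hy hyy => q.rot hK hy hyy
  cp := fun K hK => q.cpp hK
  fib := fun K hK L hL => q.fib hK hL

end EH

end Cfsg.Agent.Cit.Nil.RTwoM.Quo
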