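import Cfsg.Agent.Cit.Nil.RTwoM.AN.QuoC
import Cfsg.Agent.Cit.Nil.RTwoM.AN.BigDef
import Cfsg.Agent.Cit.Nil.RFour.TwoProj

/-!
# `AN(s)`, `r = 2`, `m = 2`: `YF` from the world `Y` (with helper545's `exists_ax`)
-/

set_option autoImplicit false
set_option linter.style.haveILetI false
set_option linter.unusedSectionVars false

namespace Cfsg.Agent.Cit.Nil.RTwoM.Quo.QH

open Subgroup Cfsg Cit IndDefs

open RG (CP)

universe u

variable {G : Type u} [Group G] [Finite G] {Om : Set (Subgroup G)} {e g : G} {K L : Subgroup G}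
  {Y : Type u} [Group Y] {f : ↥(centralizer ({e} : Set G)) →* Y}

/-- two type I partners of a given point which do not commute -/
theorem exists_ti_at (q : QH Om e) (hev : ∀ (G : Type u) [Group G] [Finite G], Comp.EvQ G) (qf : QF Om e f) [Finite Y]
    (i : RFour.LIn.{u}) (hK : K ∈ Me Om e) : ∃ t t', RFour.TI (img f (restr Om (centralizer {e}))) (zz (im f K)) t ∧
    RFour.TI (img f (restr Om (centralizer {e}))) (zz (im f K)) t' ∧ t * t' ≠ t' * t := by
  have h := q.w4 hev qf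
  obtain ⟨z, t, t', h1, h2, h3⟩ := q.exists_ti hev qf i
  obtain ⟨A, hA⟩ := h1.inZ
  obtain ⟨g, hg⟩ := q.oneCls hev qf A hA.1 (im f K) (im_mem hK)
  have h4 : g * z * g⁻¹ = zz (im f K) := by
    rw [← (hA.cj h g).2, hg]
  refine ⟨g * t * g⁻¹, g * t' * g⁻¹, ?_, ?_, ?_⟩
  · rw [← h4]; exact h1.conj h g
  · rw [← h4]; exact h2.conj h g
  · intro h5
    apply h3
    have h6 : g * (t * t') * g⁻¹ = g * (t' * t) * g⁻¹ := by
      calc g * (t * t') * g⁻¹ = g * t * g⁻¹ * (g * t' * g⁻¹) := by group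
        _ = g * t' * g⁻¹ * (g * t * g⁻¹) := h5
        _ = g * (t' * t) * g⁻¹ := by group
    exact mul_left_cancel (mul_right_cancel h6)

/-- **`YF`** -/
theorem yf (q : QH Om e) (hev : ∀ (G : Type u) [Group G] [Finite G], Comp.EvQ G) (i : RFour.LIn.{u})
    (hK : K ∈ Me Om e) : YF Om (zz K) (zz K * e) := by
  obtain ⟨Y, _, _, f, qf⟩ := q.exists_f
  have h := q.w4 hev qf
  have qm := (q.qt qf).qm hev
  obtain ⟨t, t', h1, h2, h3⟩ := q.exists_ti_at hev qf i hK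
  intro M N y y' hM hN hMN hy hyy hy' hyy'
  have hMe := q.me_of_mem hK hM
  have hNe := q.me_of_mem hK hN
  have hzz := q.wm.hyp.zz_mul hK.1
  have key : ∀ P, Mem Om (zz K * e) P → P ∈ Me Om e → zz (im f P) = zz (im f K) := by
    intro P mP hP
    rw [q.zz_im_eq_iff hev qf hP hK]
    intro N hN k hk
    have h5 : e * zz K = zz K * e := (mem_Me.1 hK).2 _ (q.wm.hyp.zz_mem hK.1)
    have h6 : zz P * zz K = e := by rw [mP.2, mul_assoc, h5, ← mul_assoc, hzz, one_mul]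
    rw [h6]
    exact (mem_Me.1 hN).2 k hk
  have mM : RFour.Mem (img f (restr Om (centralizer {e}))) (zz (im f K)) (im f M) := ⟨im_mem hMe, key M hM hMe⟩
  have mN : RFour.Mem (img f (restr Om (centralizer {e}))) (zz (im f K)) (im f N) := ⟨im_mem hNe, key N hN hNe⟩
  have hz1 := hMe.2 (q.wm.hyp.zz_mem hMe.1)
  have hz2 := hNe.2 (q.wm.hyp.zz_mem hNe.1)
  have hyC := hMe.2 hy
  have hyC' := hNe.2 hy'
  obtain ⟨v, hv, hv1, hv2⟩ := RFour.exists_ax h (fun A B hA hB => q.oneCls hev qf A hA.1 B hB.1) h1 h2 h3 mM mN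
    (fun he => hMN (q.im_inj hev qf hMe hNe he)) (y := f ⟨y, hyC⟩) ⟨_, hy, rfl⟩ (by
      rw [← mM.2, q.zz_im hev qf hMe hz1, ← map_mul]
      congr 1
      exact Subtype.ext (hyy.trans hM.2.symm)) (x := f ⟨y', hyC'⟩) ⟨_, hy', rfl⟩ (by
      rw [← mN.2, q.zz_im hev qf hNe hz2, ← map_mul]
      congr 1
      exact Subtype.ext (hyy'.trans hN.2.symm))
  obtain ⟨L, hL, rfl⟩ := q.exists_pt hev qf hv.inT
  refine ⟨zz L, q.ti_lift hev qf hK hL hK rfl hv, ?_, ?_, ?_⟩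
  · have h4 := q.ti_lift hev qf hK hL hMe mM.2 hv
    rwa [hM.2] at h4
  · obtain ⟨m, hm, hm', he, hAs⟩ := q.as_of_ti hev qf hL hMe hv1
    have h4 : (⟨m, hm'⟩ : ↥(centralizer ({e} : Set G))) * (⟨y, hyC⟩ : ↥(centralizer ({e} : Set G)))⁻¹ = 1 :=
      qm.inj (sub_mem hMe) (mul_mem (show (⟨m, hm'⟩ : ↥(centralizer ({e} : Set G))) ∈ M.subgroupOf _ from hm)
        (inv_mem (show (⟨y, hyC⟩ : ↥(centralizer ({e} : Set G))) ∈ M.subgroupOf _ from hy))) (by
        rw [map_mul, map_inv, he, mul_inv_cancel])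
    have h5 : m = y := congrArg Subtype.val (mul_inv_eq_one.1 h4)
    rwa [← h5]
  · obtain ⟨m, hm, hm', he, hAs⟩ := q.as_of_ti hev qf hL hNe hv2
    have h4 : (⟨m, hm'⟩ : ↥(centralizer ({e} : Set G))) * (⟨y', hyC'⟩ : ↥(centralizer ({e} : Set G)))⁻¹ = 1 :=
      qm.inj (sub_mem hNe) (mul_mem (show (⟨m, hm'⟩ : ↥(centralizer ({e} : Set G))) ∈ N.subgroupOf _ from hm)
        (inv_mem (show (⟨y', hyC'⟩ : ↥(centralizer ({e} : Set G))) ∈ N.subgroupOf _ from hy'))) (by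
        rw [map_mul, map_inv, he, mul_inv_cancel])
    have h5 : m = y' := congrArg Subtype.val (mul_inv_eq_one.1 h4)
    rwa [← h5]

end Cfsg.Agent.Cit.Nil.RTwoM.Quo.QH
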