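import Cfsg.Agent.Cit.Nil.RTwoM.AN.QuoI
import Cfsg.Agent.Cit.Nil.RTwoM.AN.OfTwo

/-!
# `AN(s)`, `r = 2`: the input `YFr` of `ANT.of_ge`, and `ANT`

* **`YFr.of_ind`** : `m = 2`: the world `Y = C(z u)/C(⟨members⟩)`, `r' = 4` (helper449's `W4.false_of_two`);
* **`ANT.of_ind`** : `AN(s)` for all `s ∈ T_S`, `s ≠ 1`, any `m ≥ 2`.
-/

set_option autoImplicit false
set_option linter.style.haveILetI false

namespace Cfsg.Agent.Cit.Nil.RTwoM

open Subgroup Cfsg Cfsg.Agent.Cit IndDefs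
open RG (WR CP RR)
open RI (CS)
open Cfsg.Agent.Cit.Nil.ROne (FSimp)

universe u

variable {G : Type u} [Group G] [Finite G] {Om : Set (Subgroup G)} {X : Subgroup G}

theorem CTwo_of (two : ∀ S : Sylow 2 G, (CS Om (S : Subgroup G)).ncard = 2) : Quo.CTwo Om := by
  intro T a b c ha hb hc hab
  have hCS : CS Om (T : Subgroup G) = {a, b} := by
    symm
    refine Set.eq_of_subset_of_ncard_le ?_ ?_ (Set.toFinite _)
    · rintro x (rfl | rfl)
      · exact ha
      · exact hb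
    · rw [two T, Set.ncard_pair hab]
  rw [hCS] at hc
  exact hc

/-- **the input `YFr`** -/
theorem YFr.of_ind (h : WM Om) (cls : OneCls Om) (c3 : C3E Om) (hn : NilG Om)
    (core : ∀ v : G, v * v = 1 → v ≠ 1 → pPrimeCore 2 ↥(centralizer ({v} : Set G)) = ⊥)
    (hev : ∀ (G : Type u) [Group G] [Finite G], Comp.EvQ G) (i : RFour.LIn.{u})
    (two : ∀ S : Sylow 2 G, (CS Om (S : Subgroup G)).ncard = 2) : YFr Om := by
  intro S KK fr z u hz hu hne
  have nw : ANTwo.NW (RG.ZZ Om) (RR Om) :=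
    { gw := h.gw
      nil := fun z hz u hu hc => hn z hz u hu ((CompR.cp_iff h.gw hz).2 hc) }
  have hzZ := CS.inZ hz
  have huZ := CS.inZ hu
  have hzu := CS.comm hz h S.isPGroup' hu
  have hzz := hzZ.z2 h
  have huu := huZ.z2 h
  have he : (z * u) * (z * u) = 1 := by
    calc (z * u) * (z * u) = z * (u * z) * u := by group
      _ = z * (z * u) * u := by rw [hzu]
      _ = (z * z) * (u * u) := by group
      _ = 1 := by rw [hzz, huu, one_mul]
  have he1 : z * u ≠ 1 := by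
    intro h1
    apply hne
    have h2 := eq_inv_of_mul_eq_one_left h1
    rwa [huZ.inv h] at h2
  have q : Quo.EH Om S z u := ⟨h, cls, c3, CTwo_of two, nw, hz, hu, hne, core _ he he1, ⟨KK, fr⟩⟩
  obtain ⟨K, hK, hzK, -⟩ := q.exists_z
  have h1 := q.qh.yf hev i hK
  rwa [hzK, q.ze] at h1

/-- **`AN(s)`, `s ∈ T_S`, `s ≠ 1`, any `m ≥ 2`** -/
theorem ANT.of_ind (h : WM Om) (cls : OneCls Om) (c3 : C3E Om) (hn : NilG Om) (tp : CompR.TP (RG.ZZ Om) (RR Om))
    (core : ∀ v : G, v * v = 1 → v ≠ 1 → pPrimeCore 2 ↥(centralizer ({v} : Set G)) = ⊥)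
    (ge : ∀ S : Sylow 2 G, 2 ≤ (CS Om (S : Subgroup G)).ncard) (f : FSimp X) (h2 : 2 ∣ Nat.card X)
    (gold : Cit.ROne.Gold X) (hB : CloEnd.Bend X)
    (hev : ∀ (G : Type u) [Group G] [Finite G], Comp.EvQ G) (i : RFour.LIn.{u}) : ANT Om :=
  ANT.of_ge h cls c3 hn tp ge f h2 gold hB (YFr.of_ind h cls c3 hn core hev i)

end Cfsg.Agent.Cit.Nil.RTwoM
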