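import Cfsg.Agent.Cit.Nil.RTwoM.LZero
import Cfsg.Agent.Cit.Nil.RTwoM.Act
import Cfsg.Agent.StdEven.Syl

/-!
# S1309, (6b), (n6), `r = 2`, `m = 2`: the case `a0(z) = {z*}` (helper762, #20587; helper735, #20490 (3))

`OneP Om` : C-partners are unique; `CSwap Om` : the C-SWAP LEMMA; `s = z u`, `C_S = {z, u}`.

* `PS Om s` : a 2-subgroup of `C(s)` permutes `{b, b s}` for a C-pair `(b, b s)`; if `s` centralises a member over `x`, then
  `(x, x s)` is a C-pair; `PS.of`, `PS.conj`;
* `PS.axis` (i), `PS.swp` (ii), **`PS.mem_CX`** (iii) : `x ∈ Z ∩ C(s)` implies `s ∈ C(R_x)`;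
* **`PS.isolated`** : `s` commutes with no other conjugate of `s`; `mem_CX_of_comm`, `isolated`, **`not_oneP`**.
-/

set_option autoImplicit false
set_option linter.style.haveILetI false
set_option linter.unusedSectionVars false

namespace Cfsg.Agent.Cit.Nil.RTwoM

open Subgroup Cfsg Cfsg.Agent.Cit Cfsg.Agent.StdEven.Syl

open RG (WR CP Ov InO Tr)
open RI (CS)

variable {G : Type*} [Group G] {Om : Set (Subgroup G)} {K L M : Subgroup G} {a b c d e s t u v w x y z g k n : G}

/-- C-partners are unique -/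
def OneP (Om : Set (Subgroup G)) : Prop := ∀ z u v, InZ Om z → InZ Om u → InZ Om v → CP Om z u → CP Om z v → u = v

/-- the statement of the C-SWAP LEMMA -/
def CSwap (Om : Set (Subgroup G)) : Prop := ∀ x z u, InZ Om x → InZ Om z → InZ Om u → CP Om z u →
  x * z * x⁻¹ = u → z * u ∈ CX Om x

/-- `s = z u`, `C_S = {z, u}` -/
structure PS (Om : Set (Subgroup G)) (s : G) : Prop where
  ss : s * s = 1
  ne : s ≠ 1
  syl : ∀ P : Subgroup G, IsPGroup 2 P → (∀ p ∈ P, p * s = s * p) → ∃ b, InZ Om b ∧ InZ Om (b * s) ∧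
    CP Om b (b * s) ∧ ∀ p ∈ P, p * b * p⁻¹ = b ∨ p * b * p⁻¹ = b * s
  mem : ∀ x K, Mem Om x K → (∀ k ∈ K, s * k = k * s) → InZ Om (x * s) ∧ CP Om x (x * s)

section Fin

variable [Finite G]

theorem PS.of (h : WM Om) (one : OneP Om) (S : Sylow 2 G) (hz : z ∈ CS Om (S : Subgroup G))
    (hu : u ∈ CS Om (S : Subgroup G)) (hne : z ≠ u) : PS Om (z * u) := by
  have hS := S.isPGroup'
  have hcp : CP Om z u := CS.cp hz h hS hu hne
  have hzz := (CS.inZ hz).z2 h
  have huu := (CS.inZ hu).z2 h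
  have hzu : z * u = u * z := CS.comm hz h hS hu
  have hall : ∀ v ∈ CS Om (S : Subgroup G), v = z ∨ v = u := by
    intro v hv
    by_cases hvz : v = z
    · exact Or.inl hvz
    · right
      exact (one z u v (CS.inZ hz) (CS.inZ hu) (CS.inZ hv) hcp (CS.cp hz h hS hv (Ne.symm hvz))).symm
  have hz1 : z * (z * u) = u := by rw [← mul_assoc, hzz, one_mul]
  have hu1 : u * (z * u) = z := by rw [hzu, ← mul_assoc, huu, one_mul]
  -- `S ≤ C(s)`
  have hSs : (S : Subgroup G) ≤ centralizer {z * u} := by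
    intro p hp
    rw [mem_centralizer_singleton_iff]
    have h1 := hall _ (CS.conj hz h hp)
    have h2 := hall _ (CS.conj hu h hp)
    have h3 : p * z * p⁻¹ ≠ p * u * p⁻¹ := fun e => hne (mul_left_cancel (mul_right_cancel e))
    have h4 : p * (z * u) * p⁻¹ = z * u := by
      have e : p * (z * u) * p⁻¹ = (p * z * p⁻¹) * (p * u * p⁻¹) := by group
      rcases h1 with h1 | h1 <;> rcases h2 with h2 | h2
      · exact absurd (h1.trans h2.symm) h3
      · rw [e, h1, h2]
      · rw [e, h1, h2, hzu]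
      · exact absurd (h1.trans h2.symm) h3
    calc p * (z * u) = p * (z * u) * p⁻¹ * p := by group
      _ = z * u * p := by rw [h4]
  have hIS : IsSyl (S : Subgroup G) (centralizer {z * u}) := (isSyl_top_of_sylow S).mono hSs le_top
  refine ⟨?_, ?_, ?_, ?_⟩
  · calc z * u * (z * u) = z * u * (u * z) := by rw [hzu]
      _ = z * (u * u) * z := by group
      _ = 1 := by rw [huu, mul_one, hzz]
  · intro h1
    apply hne
    rw [← (CS.inZ hz).inv h]
    exact (eq_inv_of_mul_eq_one_right h1).symm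
  · intro P hP hPs
    have hle : P ≤ centralizer {z * u} := fun p hp => mem_centralizer_singleton_iff.2 (hPs p hp)
    obtain ⟨c, hc, hcP⟩ := hIS.exists_conj hP hle
    have hcs : c * (z * u) = z * u * c := mem_centralizer_singleton_iff.1 hc
    have hcs' : c⁻¹ * (z * u) = z * u * c⁻¹ := by
      calc c⁻¹ * (z * u) = c⁻¹ * (z * u * c) * c⁻¹ := by group
        _ = c⁻¹ * (c * (z * u)) * c⁻¹ := by rw [hcs]
        _ = z * u * c⁻¹ := by group
    have e1 : c⁻¹ * z * c * (z * u) = c⁻¹ * u * c := by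
      calc c⁻¹ * z * c * (z * u) = c⁻¹ * z * (c * (z * u)) := by group
        _ = c⁻¹ * (z * (z * u)) * c := by rw [hcs]; group
        _ = _ := by rw [hz1]
    have e2 : ∀ v : G, c⁻¹ * v * c = c⁻¹ * v * c⁻¹⁻¹ := fun v => by rw [inv_inv]
    refine ⟨c⁻¹ * z * c, ?_, ?_, ?_, ?_⟩
    · rw [e2]; exact (CS.inZ hz).conj h _
    · rw [e1, e2]; exact (CS.inZ hu).conj h _
    · rw [e1, e2, e2]; exact cp_conj h hcp _
    · intro p hp
      have h1 := hall _ (CS.conj hz h (hcP p hp))
      rw [e1]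
      rcases h1 with h1 | h1
      · left
        calc p * (c⁻¹ * z * c) * p⁻¹ = c⁻¹ * (c * p * c⁻¹ * z * (c * p * c⁻¹)⁻¹) * c := by group
          _ = _ := by rw [h1]
      · right
        calc p * (c⁻¹ * z * c) * p⁻¹ = c⁻¹ * (c * p * c⁻¹ * z * (c * p * c⁻¹)⁻¹) * c := by group
          _ = _ := by rw [h1]
  · intro x K hK hc
    have hKs : K ≤ centralizer {z * u} := fun k hk => mem_centralizer_singleton_iff.2 (hc k hk).symm
    obtain ⟨c, hcc, hcK⟩ := hIS.exists_conj (h.isPGroup hK.1) hKs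
    have hcs : c * (z * u) = z * u * c := mem_centralizer_singleton_iff.1 hcc
    have hKc := hK.cj h c
    have h2 : c * x * c⁻¹ ∈ CS Om (S : Subgroup G) := by
      refine ⟨cj c K, hKc, ?_⟩
      rintro _ ⟨k, hk, rfl⟩
      exact hcK k hk
    -- `c x c⁻¹ · s` is the other one
    have h3 : InZ Om (c * x * c⁻¹ * (z * u)) ∧ CP Om (c * x * c⁻¹) (c * x * c⁻¹ * (z * u)) := by
      rcases hall _ h2 with h3 | h3
      · rw [h3, hz1]; exact ⟨CS.inZ hu, hcp⟩
      · rw [h3, hu1]; exact ⟨CS.inZ hz, hcp.symm⟩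
    have e1 : c⁻¹ * (c * x * c⁻¹ * (z * u)) * c⁻¹⁻¹ = x * (z * u) := by
      calc c⁻¹ * (c * x * c⁻¹ * (z * u)) * c⁻¹⁻¹ = x * (c⁻¹ * (z * u * c)) := by group
        _ = x * (c⁻¹ * (c * (z * u))) := by rw [hcs]
        _ = x * (z * u) := by group
    have e2 : c⁻¹ * (c * x * c⁻¹) * c⁻¹⁻¹ = x := by group
    have h4 := h3.1.conj h c⁻¹
    have h5 := cp_conj h h3.2 c⁻¹
    rw [e1] at h4 h5
    rw [e2] at h5
    exact ⟨h4, h5⟩

theorem PS.conj (p : PS Om s) (h : WM Om) (g : G) : PS Om (g * s * g⁻¹) := by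
  refine ⟨?_, ?_, ?_, ?_⟩
  · calc g * s * g⁻¹ * (g * s * g⁻¹) = g * (s * s) * g⁻¹ := by group
      _ = 1 := by rw [p.ss]; group
  · intro h1
    apply p.ne
    calc s = g⁻¹ * (g * s * g⁻¹) * g := by group
      _ = 1 := by rw [h1]; group
  · intro P hP hPs
    have h1 : IsPGroup 2 (cj g⁻¹ P) := hP.map _
    obtain ⟨b, hb, hbs, hc, hP'⟩ := p.syl (cj g⁻¹ P) h1 (by
      rintro _ ⟨q, hq, rfl⟩
      show g⁻¹ * q * g⁻¹⁻¹ * s = s * (g⁻¹ * q * g⁻¹⁻¹)
      have h2 := hPs q hq
      calc g⁻¹ * q * g⁻¹⁻¹ * s = g⁻¹ * (q * (g * s * g⁻¹)) * g := by group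
        _ = g⁻¹ * (g * s * g⁻¹ * q) * g := by rw [h2]
        _ = _ := by group)
    have e1 : g * b * g⁻¹ * (g * s * g⁻¹) = g * (b * s) * g⁻¹ := by group
    refine ⟨g * b * g⁻¹, hb.conj h g, ?_, ?_, ?_⟩
    · rw [e1]; exact hbs.conj h g
    · rw [e1]; exact cp_conj h hc g
    · intro q hq
      rw [e1]
      have h2 : g⁻¹ * q * g⁻¹⁻¹ ∈ cj g⁻¹ P := conj_mem_cj hq
      rcases hP' _ h2 with h3 | h3
      · left
        calc q * (g * b * g⁻¹) * q⁻¹ = g * (g⁻¹ * q * g⁻¹⁻¹ * b * (g⁻¹ * q * g⁻¹⁻¹)⁻¹) * g⁻¹ := by group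
          _ = _ := by rw [h3]
      · right
        calc q * (g * b * g⁻¹) * q⁻¹ = g * (g⁻¹ * q * g⁻¹⁻¹ * b * (g⁻¹ * q * g⁻¹⁻¹)⁻¹) * g⁻¹ := by group
          _ = _ := by rw [h3]
  · intro x K hK hc
    have hK' := hK.cj h g⁻¹
    obtain ⟨h1, h2⟩ := p.mem _ _ hK' (by
      rintro _ ⟨k, hk, rfl⟩
      show s * (g⁻¹ * k * g⁻¹⁻¹) = g⁻¹ * k * g⁻¹⁻¹ * s
      have h2 := hc k hk
      calc s * (g⁻¹ * k * g⁻¹⁻¹) = g⁻¹ * (g * s * g⁻¹ * k) * g := by group
        _ = g⁻¹ * (k * (g * s * g⁻¹)) * g := by rw [h2]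
        _ = _ := by group)
    have h3 := h1.conj h g
    have h4 := cp_conj h h2 g
    have e1 : g * (g⁻¹ * x * g⁻¹⁻¹ * s) * g⁻¹ = x * (g * s * g⁻¹) := by group
    have e2 : g * (g⁻¹ * x * g⁻¹⁻¹) * g⁻¹ = x := by group
    rw [e1] at h3 h4
    rw [e2] at h4
    exact ⟨h3, h4⟩

/-- `s` centralises a member over `x`: `s` centralises all -/
theorem PS.cx (p : PS Om s) (h : WM Om) (hK : Mem Om x K) (hc : ∀ k ∈ K, s * k = k * s) : s ∈ CX Om x := by
  obtain ⟨h1, h2⟩ := p.mem x K hK hc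
  have h3 := cp_cx h h1 h2
  have h4 := mul_mem (inv_mem (z_mem_CX h : x ∈ CX Om x)) h3
  rwa [inv_mul_cancel_left] at h4

theorem PS.pair (p : PS Om s) (_ : WM Om) (hx : InZ Om x) (hs : s ∈ CX Om x) : InZ Om (x * s) ∧ CP Om x (x * s) := by
  obtain ⟨K, hK⟩ := hx
  exact p.mem x K hK fun k hk => mem_CX.1 hs K hK k hk

/-- elements of `C(b)` centralise the C-partner of `b` -/
theorem OneP.comm (one : OneP Om) (h : WM Om) (hb : InZ Om b) (hbs : InZ Om (b * s)) (hc : CP Om b (b * s))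
    (hg : g * b = b * g) : g * s = s * g := by
  have h1 := cp_conj h hc g
  have e1 : g * b * g⁻¹ = b := by rw [hg]; group
  rw [e1] at h1
  have h2 := one _ _ _ hb hbs (hbs.conj h g) hc h1
  have h3 : b * s = b * (g * s * g⁻¹) := by
    calc b * s = g * (b * s) * g⁻¹ := h2
      _ = (g * b * g⁻¹) * (g * s * g⁻¹) := by group
      _ = _ := by rw [e1]
  have h4 := mul_left_cancel h3
  calc g * s = g * s * g⁻¹ * g := by group
    _ = s * g := by rw [← h4]

/-- (i) -/
theorem PS.axis (p : PS Om s) (h : WM Om) (one : OneP Om) (hx : InZ Om x) (hxs : x * s = s * x) (hn : s ∉ CX Om x)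
    (hb : InZ Om b) (hbs : InZ Om (b * s)) (hc : CP Om b (b * s)) (hxb : x * b = b * x) (hK : Mem Om x K) :
    ∃ a, As K s a ∧ a * a = x ∧ (Swp Om x b ∨ b * a * b⁻¹ = x * a) := by
  have hbb := hb.z2 h
  have hbs' : b * s = s * b := (one.comm h hb hbs hc rfl)
  have hxx := hx.z2 h
  have hbcx : s ∈ CX Om b := by
    have h4 := mul_mem (inv_mem (z_mem_CX h : b ∈ CX Om b)) (cp_cx h hbs hc)
    rwa [inv_mul_cancel_left] at h4
  have hbcx' : s ∈ CX Om (b * s) := by
    have h4 := mul_mem (cp_cx h hb hc.symm) (z_mem_CX h : b * s ∈ CX Om (b * s))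
    rwa [← mul_assoc, hbb, one_mul] at h4
  have hnK : ∀ {M}, Mem Om x M → ¬ As M s 1 := fun hM h1 => hn (p.cx h hM (As.one_iff.1 h1))
  have hxne : x ≠ b := fun e => hn (e ▸ hbcx)
  have hxne' : x ≠ b * s := fun e => hn (e ▸ hbcx')
  have hxbs : x * (b * s) = b * s * x := by rw [← mul_assoc, hxb, mul_assoc, hxs, mul_assoc]
  have hncp : ¬ CP Om x b := fun h1 => hxne' (one _ _ _ hb hx hbs h1.symm hc)
  have hncp' : ¬ CP Om x (b * s) := fun h1 => hxne (one _ _ _ hbs hx hb h1.symm hc.symm)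
  have hbbs : b * (b * s) = s := by rw [← mul_assoc, hbb, one_mul]
  have hbsb : (b * s) * b = s := by rw [hbs', mul_assoc, hbb, mul_one]
  -- same centralisers
  have hcb : ∀ g, g * b = b * g ↔ g * (b * s) = b * s * g := by
    intro g
    constructor
    · intro hg
      have h1 := one.comm h hb hbs hc hg
      rw [← mul_assoc, hg, mul_assoc, h1, mul_assoc]
    · intro hg
      have hc' : CP Om (b * s) (b * s * s) := by
        rw [mul_assoc, p.ss, mul_one]; exact hc.symm
      have hb' : InZ Om (b * s * s) := by rw [mul_assoc, p.ss, mul_one]; exact hb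
      have h1 := one.comm h hbs hb' hc' hg
      calc g * b = (g * (b * s)) * s := by rw [mul_assoc g, mul_assoc b, p.ss, mul_one]
        _ = b * s * (g * s) := by rw [hg, mul_assoc]
        _ = b * (s * s) * g := by rw [h1]; group
        _ = b * g := by rw [p.ss, mul_one]
  obtain ⟨L, hL, hne, -⟩ := hK.other h
  -- `TI` and `Swp`
  have hIS : ∀ {b c : G}, InZ Om b → TI Om x b → Swp Om x c → (∀ g, g * b = b * g → g * c = c * g) → False := by
    intro b c hb hti hsw hcc
    obtain ⟨y, hy, hyy⟩ := hti.exists_as h hK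
    have h1 : y * b = b * y := (hy.comm).symm
    have h2 := hcc y h1
    have h3 : y ∈ cj c K := by
      have h4 := conj_mem_cj (g := c) hy.1
      rwa [← h2, mul_inv_cancel_right] at h4
    rcases hsw.inf h hK hy.1 h3 rfl with h4 | h4
    · rw [h4, one_mul] at hyy; exact hx.z1 h hyy.symm
    · rw [h4, hxx] at hyy; exact hx.z1 h hyy.symm
  have hFS : ∀ {b c : G}, Ff Om x c → Swp Om x b → b * b = 1 → (∀ g, g * b = b * g → g * c = c * g) → False := by
    intro b c hf hsw hbb hcc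
    obtain ⟨y, hy, hy1, -⟩ := hsw.cent_fix h hK (hf.2 K hK).1 (fun k hk =>
      (hcc _ (qq_comm hsw h hbb hK hk).symm).symm)
    exact (hf.2 K hK).2 fun k hk => by rw [hy1.2 k hk]; exact hK.comm_or h hk hy
  rcases tri h hx hb hxne hxb with h1 | h1 | h1
  · exact absurd h1 hncp
  · rcases tri h hx hbs hxne' hxbs with h2 | h2 | h2
    · exact absurd h2 hncp'
    · have h3 := tt_II_cx h hc h1 h2
      rw [hbbs] at h3
      exact absurd h3 hn
    · rcases h2.1.cases with h3 | h3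
      · exact (hIS hb h1 h3 fun g => (hcb g).1).elim
      · exact (tt_If h hc h1 hbs h3).elim
  · rcases tri h hx hbs hxne' hxbs with h2 | h2 | h2
    · exact absurd h2 hncp'
    · rcases h1.1.cases with h3 | h3
      · exact (hIS hbs h2 h3 fun g => (hcb g).2).elim
      · exact (tt_If h hc.symm h2 hb h3).elim
    · have hbsbs := hbs.z2 h
      rcases h1.1.cases with h3 | h3 <;> rcases h2.1.cases with h4 | h4
      · -- swaps
        rcases h3.cent h hbb hK hxbs.symm (fun k hk =>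
          ((hcb _).1 (qq_comm h3 h hbb hK hk).symm).symm) with ⟨a, ha, h5, -⟩ | ⟨-, a, ha, h5, -⟩
        · exact absurd h5.cj_eq (h4.2 K hK)
        · rw [hbsb] at h5
          refine ⟨a, h5, ?_, Or.inl h3⟩
          rcases hK.sq_cases h ha with h6 | h6 | h6
          · rw [h6] at h5; exact absurd h5 (hnK hK)
          · exfalso
            rw [h6] at h5
            apply hnK hK
            refine ⟨one_mem _, fun k hk => ?_⟩
            rw [h5.2 k hk, ← hK.comm_z h hk]
            group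
          · exact h6
      · exact (hFS h4 h3 hbb fun g => (hcb g).1).elim
      · exact (hFS h3 h4 hbsbs fun g => (hcb g).2).elim
      · obtain ⟨a, ha⟩ := h3.exists_tr h hbb hK
        obtain ⟨a', ha'⟩ := h4.exists_tr h hbsbs hK
        have hcbs : b * (b * s) = b * s * b := by rw [hbbs, hbsb]
        have h5 := Tr.same h hK (h3.2 K hK).1 hcbs ha' ha
        have h6 := Tr.mul_cases h hK (h3.2 K hK).1 (h4.2 K hK).1 ha h5
        rw [hbbs] at h6
        refine ⟨a, h6.resolve_left (hnK hK), Tr.sq' ha hK, Or.inr (Tr.inv' ha hK h)⟩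

/-- a cyclic 2-subgroup -/
theorem isPGroup_zpowers_of (ha : a * a = x) (hx : x * x = 1) : IsPGroup 2 (zpowers a) := by
  rw [IsPGroup.iff_orderOf]
  intro g
  obtain ⟨k, hk⟩ := g.2
  refine (Nat.dvd_prime_pow Nat.prime_two (m := 2)).1 ?_ |>.imp fun k hk => hk.2
  rw [← orderOf_coe, orderOf_dvd_iff_pow_eq_one]
  have h1 : (g : G) = a ^ k := hk.symm
  rw [h1, ← zpow_natCast, ← zpow_mul, mul_comm, zpow_mul]
  have h2 : a ^ (((2 ^ 2 : ℕ)) : ℤ) = 1 := by
    rw [zpow_natCast]
    calc a ^ (2 ^ 2) = (a * a) * (a * a) := by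
          rw [show (2 ^ 2 : ℕ) = 2 + 2 from rfl, pow_add, pow_two]
      _ = 1 := by rw [ha, hx]
  rw [h2, one_zpow]

/-- (ii) -/
theorem PS.swp (p : PS Om s) (h : WM Om) (one : OneP Om) (csw : CSwap Om) (hx : InZ Om x) (hxs : x * s = s * x)
    (hn : s ∉ CX Om x) : ∃ K a b, Mem Om x K ∧ As K s a ∧ a * a = x ∧ InZ Om b ∧ InZ Om (b * s) ∧ CP Om b (b * s) ∧
      b * x = x * b ∧ Swp Om x b ∧ s ∈ RZ Om x := by
  have hxx := hx.z2 h
  obtain ⟨K, hK⟩ := id hx
  have hP1 : IsPGroup 2 (zpowers x) := isPGroup_zpowers_of hxx (one_mul 1)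
  obtain ⟨b, hb, hbs, hc, hP⟩ := p.syl (zpowers x) hP1 (fun q hq => by
    have h1 : zpowers x ≤ centralizer {s} := (zpowers_le).2 (mem_centralizer_singleton_iff.2 hxs)
    exact mem_centralizer_singleton_iff.1 (h1 hq))
  have hbb := hb.z2 h
  have hbbs : b * (b * s) = s := by rw [← mul_assoc, hbb, one_mul]
  have hxb : x * b = b * x := by
    rcases hP x (mem_zpowers x) with h1 | h1
    · exact mul_inv_eq_iff_eq_mul.1 h1
    · have h2 := csw x b (b * s) hx hb hbs hc h1
      rw [hbbs] at h2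
      exact absurd h2 hn
  obtain ⟨a, ha, haa, -⟩ := p.axis h one hx hxs hn hb hbs hc hxb hK
  have hsa : s * a = a * s := ha.comm
  have hP2 : IsPGroup 2 (zpowers a) := isPGroup_zpowers_of haa hxx
  obtain ⟨b', hb', hbs', hc', hP'⟩ := p.syl (zpowers a) hP2 (fun q hq => by
    have h1 : zpowers a ≤ centralizer {s} := (zpowers_le).2 (mem_centralizer_singleton_iff.2 hsa.symm)
    exact mem_centralizer_singleton_iff.1 (h1 hq))
  have hbb' := hb'.z2 h
  have hsc : b' * s = s * b' := one.comm h hb' hbs' hc' rfl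
  have hmv := hP' a (mem_zpowers a)
  have hxb' : x * b' = b' * x := by
    rw [← haa]
    rcases hmv with h1 | h1
    · have h2 := mul_inv_eq_iff_eq_mul.1 h1
      rw [mul_assoc, h2, ← mul_assoc, h2, mul_assoc]
    · have h2 : a * b' = b' * s * a := mul_inv_eq_iff_eq_mul.1 h1
      calc a * a * b' = a * (a * b') := by group
        _ = (a * b') * s * a := by rw [h2, ← mul_assoc, ← mul_assoc, h2]
        _ = b' * s * (a * s) * a := by rw [h2]; group
        _ = b' * (s * s) * a * a := by rw [← hsa]; group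
        _ = b' * (a * a) := by rw [p.ss, mul_one]; group
  obtain ⟨a', ha', haa', h5⟩ := p.axis h one hx hxs hn hb' hbs' hc' hxb' hK
  have hnx : b' * s ≠ x * b' := by
    intro h1
    rw [hxb'] at h1
    have h2 := mul_left_cancel h1
    rw [h2] at hn
    exact hn (z_mem_CX h)
  have hx1 := hx.z1 h
  have hax : a * x = x * a := by rw [← haa]; group
  rcases h5 with h5 | h5
  · -- swap
    refine ⟨K, a, b', hK, ha, haa, hb', hbs', hc', hxb'.symm, h5, ?_⟩
    rcases hmv with h1 | h1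
    · exfalso
      have h2 : a * b' = b' * a := mul_inv_eq_iff_eq_mul.1 h1
      have h3 : a ∈ cj b' K := by
        have h4 := conj_mem_cj (g := b') ha.1
        rwa [← h2, mul_inv_cancel_right] at h4
      rcases h5.inf h hK ha.1 h3 rfl with h4 | h4
      · rw [h4, one_mul] at haa; exact hx1 haa.symm
      · rw [h4, hxx] at haa; exact hx1 haa.symm
    · have h2 : s = (b' * a * b'⁻¹) * a⁻¹ := by
        have hbi : b'⁻¹ = b' := hb'.inv h
        calc s = b' * (b' * s) := by rw [← mul_assoc, hbb', one_mul]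
          _ = b' * (a * b' * a⁻¹) := by rw [h1]
          _ = b' * a * b'⁻¹ * a⁻¹ := by rw [hbi]; group
      rw [h2]
      exact mul_mem ((h5.mem h hK).le_RZ (conj_mem_cj ha.1)) (inv_mem (hK.le_RZ ha.1))
  · -- type `f`
    exfalso
    have h6 : b' * a * b'⁻¹ = x * a := by
      rcases hK.as_unique h ha' ha with h7 | h7
      · rw [h7]; exact h5
      · rw [h7]
        calc b' * (x * a') * b'⁻¹ = (b' * x) * a' * b'⁻¹ := by group
          _ = x * (b' * a' * b'⁻¹) := by rw [← hxb']; group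
          _ = x * (x * a') := by rw [h5]
    have h7 : a * b' * a⁻¹ = x * b' := by
      have h8 : b' * a = x * a * b' := mul_inv_eq_iff_eq_mul.1 h6
      have h9 : a * b' = x * (b' * a) := by
        rw [h8]
        calc a * b' = (x * x) * a * b' := by rw [hxx, one_mul]
          _ = x * (x * a * b') := by group
      rw [h9]
      group
    rcases hmv with h8 | h8
    · rw [h7] at h8
      exact hx1 (mul_eq_right.1 h8)
    · rw [h7] at h8
      exact hnx h8.symm

/-- **(iii)** : `Z ∩ C(s) = Z(s)` -/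
theorem PS.mem_CX (p : PS Om s) (h : WM Om) (one : OneP Om) (csw : CSwap Om) (hx : InZ Om x) (hxs : x * s = s * x) :
    s ∈ CX Om x := by
  by_contra hn
  have hxx := hx.z2 h
  have hx1 := hx.z1 h
  obtain ⟨K, a, b, hK, ha, haa, hb, hbs, hc, hbx, hsw, -⟩ := p.swp h one csw hx hxs hn
  obtain ⟨y, hy, hyy, hay⟩ := hK.exists_nc h ha.1 haa
  have hyx : y * x = x * y := hK.comm_z h hy
  have hsb : b * s = s * b := one.comm h hb hbs hc rfl
  -- `y s y⁻¹ = x s`
  have h1 : s * y * s⁻¹ = x * y := by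
    rw [ha.2 y hy]
    exact hK.anti h hy hyy ha.1 haa (Ne.symm hay)
  have h2 : s * y = x * y * s := mul_inv_eq_iff_eq_mul.1 h1
  have h3 : y * s = x * s * y := by
    calc y * s = (x * x) * y * s := by rw [hxx, one_mul]
      _ = x * (x * y * s) := by group
      _ = x * s * y := by rw [← h2]; group
  have h4 : y * s * y⁻¹ = x * s := by rw [h3]; group
  have hyi : y⁻¹ = x * y := hK.inv_eq h hy hyy
  have h5 : y⁻¹ * s * y = x * s := by
    calc y⁻¹ * s * y = x * (y * s) * y := by rw [hyi]; group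
      _ = x * (x * s * y) * y := by rw [h3]
      _ = (x * x) * s * (y * y) := by group
      _ = x * s := by rw [hyy, hxx, one_mul, hxs]
  -- `x' = y b y⁻¹`
  have hx'c : y * b * y⁻¹ * s = s * (y * b * y⁻¹) := by
    calc y * b * y⁻¹ * s = y * b * (y⁻¹ * s * y) * y⁻¹ := by group
      _ = y * (b * x) * s * y⁻¹ := by rw [h5]; group
      _ = y * x * (b * s) * y⁻¹ := by rw [hbx]; group
      _ = y * x * s * b * y⁻¹ := by rw [hsb]; group
      _ = x * (y * s) * b * y⁻¹ := by rw [hyx]; group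
      _ = x * x * s * y * b * y⁻¹ := by rw [h3]; group
      _ = s * (y * b * y⁻¹) := by rw [hxx, one_mul]; group
  have hx' := hb.conj h y
  have hn' : s ∉ CX Om (y * b * y⁻¹) := by
    intro h6
    obtain ⟨h7, h8⟩ := p.pair h hx' h6
    have h9 := cp_conj h hc y
    have h10 := one _ _ _ hx' h7 (hbs.conj h y) h8 h9
    have h11 : y * (b * s) * y⁻¹ = y * b * y⁻¹ * (y * s * y⁻¹) := by group
    rw [h11] at h10
    have h12 := mul_left_cancel h10
    rw [h4] at h12
    exact hx1 (mul_eq_right.1 h12.symm)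
  obtain ⟨-, -, -, -, -, -, -, -, -, -, -, h6⟩ := p.swp h one csw hx' hx'c hn'
  have h7 := RZ_conj h y⁻¹ h6
  have e1 : y⁻¹ * (y * b * y⁻¹) * y⁻¹⁻¹ = b := by group
  have e2 : y⁻¹ * s * y⁻¹⁻¹ = x * s := by rw [inv_inv]; exact h5
  rw [e1, e2] at h7
  have h8 : Inn Om b (x * s) := Inn.of_RZ hb h h7
  have hbcx : s ∈ CX Om b := by
    have h4 := mul_mem (inv_mem (z_mem_CX h : b ∈ CX Om b)) (cp_cx h hbs hc)
    rwa [inv_mul_cancel_left] at h4
  have h9 : Inn Om b x := (Inn.of_CX hbcx).mul_right h8 hb h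
  have h10 := h9.symm hb hx h
  exact hsw.2 K hK (h10.cj_eq hK h)

/-- **`s` is isolated** -/
theorem PS.isolated (p : PS Om s) (h : WM Om) (one : OneP Om) (csw : CSwap Om)
    (hg : (g * s * g⁻¹) * s = s * (g * s * g⁻¹)) : g * s * g⁻¹ = s := by
  by_contra hne
  obtain ⟨b, hbdef⟩ : ∃ b, b = g * s * g⁻¹ := ⟨_, rfl⟩
  have pb : PS Om b := hbdef ▸ p.conj h g
  rw [← hbdef] at hg hne
  have hbb := pb.ss
  have hbi : b⁻¹ = b := inv_eq_of_mul_eq_one_right hbb
  -- two members cannot be centralised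
  have key : ∀ w, InZ Om w → w * s = s * w → w * b = b * w → False := by
    intro w hw h1 h2
    obtain ⟨h3, h4⟩ := p.pair h hw (p.mem_CX h one csw hw h1)
    obtain ⟨h5, h6⟩ := pb.pair h hw (pb.mem_CX h one csw hw h2)
    exact hne (mul_left_cancel (one _ _ _ hw h5 h3 h6 h4))
  obtain ⟨z, hz, hzs, hc, hP⟩ := p.syl (zpowers b) (isPGroup_zpowers_of hbb (one_mul 1)) (fun q hq => by
    have h1 : zpowers b ≤ centralizer {s} := (zpowers_le).2 (mem_centralizer_singleton_iff.2 hg)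
    exact mem_centralizer_singleton_iff.1 (h1 hq))
  have hzs' : z * s = s * z := one.comm h hz hzs hc rfl
  rcases hP b (mem_zpowers b) with h1 | h1
  · exact key z hz hzs' (mul_inv_eq_iff_eq_mul.1 h1).symm
  · obtain ⟨K, hK⟩ := id hz
    obtain ⟨k, hk, hkk, -⟩ : ∃ k ∈ K, k * k = z ∧ True := by
      obtain ⟨q, hq⟩ := h.exists_q3 hK
      exact ⟨q 0, hq.mem 0, hq.sq 0, trivial⟩
    have hkb : b * k * b⁻¹ ∈ RZ Om (z * s) := by
      rw [← h1]
      exact RZ_conj h b (hK.le_RZ hk)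
    have hcm := cp_RZ h hc (hK.le_RZ hk) hkb
    obtain ⟨k', hk'⟩ : ∃ k', k' = b * k * b⁻¹ := ⟨_, rfl⟩
    rw [← hk'] at hcm
    have e1 : b * k = k' * b := by rw [hk']; group
    have e2 : b * k' = k * b := by
      calc b * k' = (b * b) * k * b⁻¹ := by rw [hk']; group
        _ = k * b := by rw [hbb, one_mul, hbi]
    have hdb : (k * k') * b = b * (k * k') := by
      calc (k * k') * b = (k' * k) * b := by rw [hcm]
        _ = k' * (b * k') := by rw [e2, mul_assoc]
        _ = b * (k * k') := by rw [← mul_assoc, ← e1, mul_assoc]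
    have hdd : (k * k') * (k * k') = s := by
      calc (k * k') * (k * k') = k * (k' * k) * k' := by group
        _ = (k * k) * (k' * k') := by rw [← hcm]; group
        _ = z * (b * (k * k) * b⁻¹) := by rw [hkk, hk', ← hkk]; group
        _ = z * (z * s) := by rw [hkk, h1]
        _ = s := by rw [← mul_assoc, hz.z2 h, one_mul]
    obtain ⟨w, hw, hws, hcw, hPw⟩ := pb.syl (zpowers (k * k')) (isPGroup_zpowers_of hdd p.ss) (fun q hq => by
      have h1 : zpowers (k * k') ≤ centralizer {b} := (zpowers_le).2 (mem_centralizer_singleton_iff.2 hdb)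
      exact mem_centralizer_singleton_iff.1 (h1 hq))
    have hwb : w * b = b * w := one.comm h hw hws hcw rfl
    refine key w hw ?_ hwb
    have h2 : s * w = w * s := by
      have hmv := hPw _ (mem_zpowers (k * k'))
      rw [← hdd]
      clear hPw
      generalize k * k' = d at *
      rcases hmv with h3 | h3
      · have h4 := mul_inv_eq_iff_eq_mul.1 h3
        rw [mul_assoc, h4, ← mul_assoc, h4, mul_assoc]
      · have h4 : d * w = w * b * d := mul_inv_eq_iff_eq_mul.1 h3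
        calc d * d * w = d * (w * b * d) := by rw [mul_assoc, h4]
          _ = (d * w) * b * d := by group
          _ = w * b * (d * b) * d := by rw [h4]; group
          _ = w * (b * b) * (d * d) := by rw [hdb]; group
          _ = w * (d * d) := by rw [hbb, mul_one]
    exact h2.symm

/-- `Z ∩ C(z u) = Z(z u)` for `C_S = {z, u}` -/
theorem mem_CX_of_comm (h : WM Om) (one : OneP Om) (csw : CSwap Om) (S : Sylow 2 G)
    (hz : z ∈ CS Om (S : Subgroup G)) (hu : u ∈ CS Om (S : Subgroup G)) (hne : z ≠ u) (hx : InZ Om x)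
    (hxs : x * (z * u) = z * u * x) : z * u ∈ CX Om x :=
  (PS.of h one S hz hu hne).mem_CX h one csw hx hxs

theorem isolated (h : WM Om) (one : OneP Om) (csw : CSwap Om) (S : Sylow 2 G)
    (hz : z ∈ CS Om (S : Subgroup G)) (hu : u ∈ CS Om (S : Subgroup G)) (hne : z ≠ u)
    (hg : (g * (z * u) * g⁻¹) * (z * u) = z * u * (g * (z * u) * g⁻¹)) : g * (z * u) * g⁻¹ = z * u :=
  (PS.of h one S hz hu hne).isolated h one csw hg

/-- **no isolated involutions, a C-pair exists: C-partners are not unique** -/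
theorem not_oneP (h : WM Om) (csw : CSwap Om)
    (niso : ∀ s : G, s * s = 1 → s ≠ 1 → ∃ g, (g * s * g⁻¹) * s = s * (g * s * g⁻¹) ∧ g * s * g⁻¹ ≠ s)
    (hz : InZ Om z) (hu : InZ Om u) (hc : CP Om z u) : ¬ OneP Om := by
  intro one
  obtain ⟨S, h1, h2⟩ := exists_sylow_of_cp h hz hu hc
  have p := PS.of h one S h1 h2 hc.1
  obtain ⟨g, hg, hne⟩ := niso _ p.ss p.ne
  exact hne (p.isolated h one csw hg)

end Fin

end Cfsg.Agent.Cit.Nil.RTwoM
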